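import Mathlib
import Cfsg.Prelude.Def_Transfer
import Cfsg.Agent.Lib.TwoFusion.Extraspecial

/-!
# Fixed points of an involution on Sylow cosets, and transvections on extraspecial groups
-/

set_option autoImplicit false

namespace Cfsg.Agent.Lib.Components

open Subgroup Cfsg.Agent.Lib.TwoFusion

variable {G : Type*} [Group G]

theorem hom_trivial_of_residual [Finite G] (hres : Cfsg.pResidual 2 G = ⊤) {A : Type*} [Group A]
    (hA : IsPGroup 2 A) (f : G →* A) (g : G) : f g = 1 := by
  have h1 : Cfsg.pResidual 2 G ≤ f.ker := by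
    rw [Cfsg.pResidual, closure_le]
    intro h hh
    rw [SetLike.mem_coe, MonoidHom.mem_ker]
    obtain ⟨k, hk⟩ := hA (f h)
    have h1 : f h ^ orderOf h = 1 := by rw [← map_pow, pow_orderOf_eq_one, map_one]
    have hc : Nat.Coprime (orderOf h) (2 ^ k) := Nat.Coprime.pow_right k hh
    have h2 := orderOf_dvd_of_pow_eq_one h1
    have h3 := orderOf_dvd_of_pow_eq_one hk
    have h4 := Nat.dvd_gcd h2 h3
    rw [hc, Nat.dvd_one, orderOf_eq_one_iff] at h4
    exact h4
  have h2 : g ∈ f.ker := h1 (by rw [hres]; exact mem_top g)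
  exact h2

/-- The fixed-point form of the Thompson transfer: an involution `x` of `G`, where `O²(G) = G`,
has an odd number of fixed cosets `gT` with `χ(g⁻¹xg) = 1`; so any 2-subgroup `R` of `C(x)` fixes one. -/
theorem transfer_fixed [Finite G] (hres : Cfsg.pResidual 2 G = ⊤) (T : Sylow 2 G)
    {A : Type*} [CommGroup A] (hA : IsPGroup 2 A) (χ : ↥(T : Subgroup G) →* A) (a : A)
    (ha : orderOf a = 2)
    (hval : ∀ t : ↥(T : Subgroup G), t ^ 2 = 1 → χ t = 1 ∨ χ t = a)
    (x : G) (hx : x ^ 2 = 1)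
    (R : Subgroup G) (hR : IsPGroup 2 R) (hRx : ∀ r ∈ R, r * x = x * r) :
    ∃ g : G, ∃ hm : g⁻¹ * x * g ∈ (T : Subgroup G), χ ⟨_, hm⟩ = 1 ∧
      ∀ r ∈ R, g⁻¹ * r * g ∈ (T : Subgroup G) := by
  classical
  haveI hp2 : Fact (Nat.Prime 2) := ⟨Nat.prime_two⟩
  letI : Fintype (G ⧸ (T : Subgroup G)) := Fintype.ofFinite _
  letI : Fintype (Quotient (MulAction.orbitRel (Subgroup.zpowers x) (G ⧸ (T : Subgroup G)))) :=
    Fintype.ofFinite _
  have ha1 : a ≠ 1 := by
    rintro rfl
    simp at ha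
  -- the extension of χ to G
  let χ' : G → A := fun c => if h : c ∈ (T : Subgroup G) then χ ⟨c, h⟩ else 1
  let V : G → A := fun g => χ' (g⁻¹ * x * g)
  have hχ' : ∀ c (t : G), t ∈ (T : Subgroup G) → χ' (t⁻¹ * c * t) = χ' c := by
    intro c t ht
    by_cases hc : c ∈ (T : Subgroup G)
    · have h1 : t⁻¹ * c * t ∈ (T : Subgroup G) :=
        mul_mem (mul_mem (inv_mem ht) hc) ht
      simp only [χ', dif_pos hc, dif_pos h1]
      have h2 : (⟨t⁻¹ * c * t, h1⟩ : ↥(T : Subgroup G)) =
          (⟨t, ht⟩ : ↥(T : Subgroup G))⁻¹ * ⟨c, hc⟩ * ⟨t, ht⟩ := rfl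
      rw [h2, map_mul, map_mul, map_inv, mul_comm, ← mul_assoc, mul_inv_cancel, one_mul]
    · have h1 : t⁻¹ * c * t ∉ (T : Subgroup G) := by
        intro h
        apply hc
        have := mul_mem (mul_mem ht h) (inv_mem ht)
        simpa [mul_assoc] using this
      simp only [χ', dif_neg hc, dif_neg h1]
  have hVt : ∀ (g t : G), t ∈ (T : Subgroup G) → V (g * t) = V g := by
    intro g t ht
    have : (g * t)⁻¹ * x * (g * t) = t⁻¹ * (g⁻¹ * x * g) * t := by group
    simp only [V, this, hχ' _ t ht]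
  have hVout : ∀ g : G, V ((g : G ⧸ (T : Subgroup G))).out = V g := by
    intro g
    obtain ⟨t, ht⟩ := QuotientGroup.mk_out_eq_mul (T : Subgroup G) g
    rw [ht, hVt _ _ t.2]
  -- fixed cosets
  have hfixmem : ∀ q : G ⧸ (T : Subgroup G), x • q = q → q.out⁻¹ * x * q.out ∈ (T : Subgroup G) := by
    intro q hq
    have h1 : ((x * q.out : G) : G ⧸ (T : Subgroup G)) = (q.out : G ⧸ (T : Subgroup G)) := by
      have : ((x * q.out : G) : G ⧸ (T : Subgroup G)) = x • (q.out : G ⧸ (T : Subgroup G)) := rfl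
      rw [this, QuotientGroup.out_eq', hq]
    have h2 := QuotientGroup.eq.mp h1
    have h3 := inv_mem h2
    have e : ((x * q.out)⁻¹ * q.out)⁻¹ = q.out⁻¹ * x * q.out := by group
    rwa [e] at h3
  have hVfix : ∀ q : G ⧸ (T : Subgroup G), x • q = q → V q.out = 1 ∨ V q.out = a := by
    intro q hq
    have hm := hfixmem q hq
    have e : V q.out = χ ⟨_, hm⟩ := dif_pos hm
    rw [e]
    apply hval
    apply Subtype.ext
    show (q.out⁻¹ * x * q.out) ^ 2 = 1
    have : (q.out⁻¹ * x * q.out) ^ 2 = q.out⁻¹ * x ^ 2 * q.out := by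
      rw [pow_two, pow_two]; group
    rw [this, hx]
    group
  have hper : ∀ q : G ⧸ (T : Subgroup G), ¬ x • q = q → Function.minimalPeriod (x • ·) q = 2 := by
    intro q hq
    have hdvd : Function.minimalPeriod (x • ·) q ∣ 2 := by
      apply Function.IsPeriodicPt.minimalPeriod_dvd
      show (x • ·)^[2] q = q
      simp only [Function.iterate_succ, Function.iterate_zero, Function.comp, id_eq]
      rw [← mul_smul, ← pow_two, hx, one_smul]
    rcases (Nat.dvd_prime Nat.prime_two).1 hdvd with h1 | h1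
    · exfalso
      apply hq
      exact Function.minimalPeriod_eq_one_iff_isFixedPt.1 h1
    · exact h1
  -- the factors
  have hfac : ∀ q : G ⧸ (T : Subgroup G),
      χ ⟨q.out⁻¹ * x ^ Function.minimalPeriod (x • ·) q * q.out,
        QuotientGroup.out_conj_pow_minimalPeriod_mem _ x q⟩ =
      if x • q = q ∧ V q.out = a then a else 1 := by
    intro q
    by_cases hq : x • q = q
    · have h1 : Function.minimalPeriod (x • ·) q = 1 :=
        Function.minimalPeriod_eq_one_iff_isFixedPt.2 hq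
      have hm := hfixmem q hq
      have e : V q.out = χ ⟨_, hm⟩ := dif_pos hm
      have e2 : χ ⟨q.out⁻¹ * x ^ Function.minimalPeriod (x • ·) q * q.out,
        QuotientGroup.out_conj_pow_minimalPeriod_mem _ x q⟩ = V q.out := by
        rw [e]
        congr 1
        apply Subtype.ext
        simp only [h1, pow_one]
      rw [e2]
      by_cases h2 : V q.out = a
      · rw [if_pos ⟨hq, h2⟩, h2]
      · rw [if_neg (fun h => h2 h.2)]
        exact (hVfix q hq).resolve_right h2
    · rw [if_neg (fun h => hq h.1)]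
      have h1 := hper q hq
      have e2 : (⟨q.out⁻¹ * x ^ Function.minimalPeriod (x • ·) q * q.out,
        QuotientGroup.out_conj_pow_minimalPeriod_mem _ x q⟩ : ↥(T : Subgroup G)) = 1 := by
        apply Subtype.ext
        simp only [h1, hx, mul_one, inv_mul_cancel]
        rfl
      rw [e2, map_one]
  -- the count
  have htrans : χ.transfer x = 1 := hom_trivial_of_residual hres hA _ x
  rw [MonoidHom.transfer_eq_prod_quotient_orbitRel_zpowers_quot,
    Finset.prod_congr rfl (fun q _ => hfac q.out), Finset.prod_ite, Finset.prod_const_one, mul_one,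
    Finset.prod_const] at htrans
  have hev : 2 ∣ (Finset.univ.filter (fun q : Quotient (MulAction.orbitRel (Subgroup.zpowers x)
      (G ⧸ (T : Subgroup G))) => x • q.out = q.out ∧ V q.out.out = a)).card := by
    have := orderOf_dvd_of_pow_eq_one htrans
    rwa [ha] at this
  have hfixz : ∀ q : G ⧸ (T : Subgroup G), x • q = q → ∀ n : ℤ, x ^ n • q = q := by
    intro q hq' n
    induction n using Int.induction_on with
    | zero => simp
    | succ i ih => rw [zpow_add_one, mul_smul, hq', ih]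
    | pred i ih =>
      rw [zpow_sub_one, mul_smul]
      have : x⁻¹ • q = q := by rw [inv_smul_eq_iff, hq']
      rw [this, ih]
  have hmkout : ∀ q : G ⧸ (T : Subgroup G), x • q = q →
      (Quotient.mk (MulAction.orbitRel (Subgroup.zpowers x) (G ⧸ (T : Subgroup G))) q).out = q := by
    intro q hq'
    have h1 : (Quotient.mk (MulAction.orbitRel (Subgroup.zpowers x) (G ⧸ (T : Subgroup G))) q).out ∈
        MulAction.orbit (Subgroup.zpowers x) q := MulAction.orbitRel_apply.mp (Quotient.mk_out q)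
    obtain ⟨k, hk⟩ := h1
    obtain ⟨k, n, rfl⟩ := k
    rw [← hk]
    show ((x ^ n : G)) • q = q
    exact hfixz q hq' n
  have hbij : (Finset.univ.filter (fun q : Quotient (MulAction.orbitRel (Subgroup.zpowers x)
      (G ⧸ (T : Subgroup G))) => x • q.out = q.out ∧ V q.out.out = a)).card =
      (Finset.univ.filter (fun q : G ⧸ (T : Subgroup G) => x • q = q ∧ V q.out = a)).card := by
    apply Finset.card_nbij' (fun q => q.out) (fun q => Quotient.mk _ q)
    · intro q hq
      simpa using hq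
    · intro q hq
      have hq' : x • q = q ∧ V q.out = a := by simpa using hq
      simp only [Finset.coe_filter, Finset.mem_univ, true_and, Set.mem_ofPred_eq]
      rw [hmkout q hq'.1]
      exact hq'
    · intro q _
      exact Quotient.out_eq _
    · intro q hq
      have hq' : x • q = q ∧ V q.out = a := by simpa using hq
      exact hmkout q hq'.1
  rw [hbij] at hev
  -- odd number of fixed points
  have hZ : IsPGroup 2 (Subgroup.zpowers x) := by
    intro k
    obtain ⟨k, n, rfl⟩ := k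
    refine ⟨1, ?_⟩
    apply Subtype.ext
    show ((x ^ n) ^ 2 ^ 1 : G) = 1
    rw [← zpow_natCast, zpow_comm, zpow_natCast, pow_one, hx, one_zpow]
  have hodd : ¬ 2 ∣ Nat.card (G ⧸ (T : Subgroup G)) := by
    have := T.not_dvd_index
    rwa [Subgroup.index] at this
  have hmod := hZ.card_modEq_card_fixedPoints (G ⧸ (T : Subgroup G))
  -- The R-set
  let S : SubMulAction ↥R (G ⧸ (T : Subgroup G)) :=
    { carrier := {q | x • q = q ∧ V q.out = 1}
      smul_mem' := by
        rintro ⟨r, hr⟩ q ⟨hq1, hq2⟩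
        have hrx := hRx r hr
        refine ⟨?_, ?_⟩
        · show x • (r • q) = r • q
          rw [← mul_smul, ← hrx, mul_smul, hq1]
        · have e : (⟨r, hr⟩ : ↥R) • q = (((r * q.out : G)) : G ⧸ (T : Subgroup G)) := by
            show r • q = _
            conv_lhs => rw [← QuotientGroup.out_eq' q]
            rfl
          rw [e, hVout]
          have e2 : V (r * q.out) = V q.out := by
            show χ' _ = χ' _
            congr 1
            calc (r * q.out)⁻¹ * x * (r * q.out) = q.out⁻¹ * (r⁻¹ * (x * r)) * q.out := by group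
              _ = q.out⁻¹ * (r⁻¹ * (r * x)) * q.out := by rw [hrx]
              _ = q.out⁻¹ * x * q.out := by group
          rw [e2]
          exact hq2 }
  have hSodd : ¬ 2 ∣ Nat.card S := by
    have hc1 : Nat.card (MulAction.fixedPoints (Subgroup.zpowers x) (G ⧸ (T : Subgroup G))) =
        (Finset.univ.filter (fun q : G ⧸ (T : Subgroup G) => x • q = q)).card := by
      rw [Nat.card_eq_fintype_card, Fintype.card_subtype]
      congr 1
      ext q
      simp only [Finset.mem_filter, Finset.mem_univ, true_and]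
      constructor
      · intro h
        exact h ⟨x, mem_zpowers x⟩
      · rintro h ⟨k, n, rfl⟩
        exact hfixz q h n
    have hc2 : Nat.card S =
        (Finset.univ.filter (fun q : G ⧸ (T : Subgroup G) => x • q = q ∧ V q.out = 1)).card := by
      rw [Nat.card_eq_fintype_card, Fintype.card_subtype]
      congr 1
      ext q
      simp only [Finset.mem_filter, Finset.mem_univ, true_and]
      exact Iff.rfl
    have hc3 : (Finset.univ.filter (fun q : G ⧸ (T : Subgroup G) => x • q = q)).card =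
        (Finset.univ.filter (fun q : G ⧸ (T : Subgroup G) => x • q = q ∧ V q.out = a)).card +
        (Finset.univ.filter (fun q : G ⧸ (T : Subgroup G) => x • q = q ∧ V q.out = 1)).card := by
      rw [← Finset.card_union_of_disjoint]
      · congr 1
        ext q
        simp only [Finset.mem_filter, Finset.mem_univ, true_and, Finset.mem_union]
        constructor
        · intro h
          rcases hVfix q h with h1 | h1
          · exact Or.inr ⟨h, h1⟩
          · exact Or.inl ⟨h, h1⟩
        · rintro (h | h) <;> exact h.1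
      · rw [Finset.disjoint_left]
        intro q h1 h2
        simp only [Finset.mem_filter, Finset.mem_univ, true_and] at h1 h2
        exact ha1 (h1.2.symm.trans h2.2)
    intro hdvd
    apply hodd
    rw [hc1, hc3] at hmod
    rw [hc2] at hdvd
    exact (Nat.ModEq.dvd_iff hmod (dvd_refl 2)).2 (dvd_add hev hdvd)
  obtain ⟨⟨q, hq⟩, hqfix⟩ := hR.nonempty_fixed_point_of_prime_not_dvd_card S hSodd
  have hq1 : x • q = q := hq.1
  have hq2 : V q.out = 1 := hq.2
  have hm := hfixmem q hq1
  refine ⟨q.out, hm, ?_, ?_⟩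
  · rw [← hq2]
    exact (dif_pos hm : V q.out = χ ⟨_, hm⟩).symm
  · intro r hr
    have h1 : (⟨r, hr⟩ : ↥R) • (⟨q, hq⟩ : S) = ⟨q, hq⟩ := hqfix ⟨r, hr⟩
    have h2 : r • q = q := congrArg Subtype.val h1
    have h3 : ((r * q.out : G) : G ⧸ (T : Subgroup G)) = (q.out : G ⧸ (T : Subgroup G)) := by
      have : ((r * q.out : G) : G ⧸ (T : Subgroup G)) = r • (q.out : G ⧸ (T : Subgroup G)) := rfl
      rw [this, QuotientGroup.out_eq', h2]
    have h4 := inv_mem (QuotientGroup.eq.mp h3)
    have e : ((r * q.out)⁻¹ * q.out)⁻¹ = q.out⁻¹ * r * q.out := by group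
    rwa [e] at h4

theorem es_rel {E : Subgroup G} {z : G} (h : ES E z) {a b : G} (ha : a ∈ E) (hb : b ∈ E) :
    a * b = b * a ∨ a * b = z * (b * a) := by
  rcases h.comm a ha b hb with e | e
  · left
    calc a * b = (a * b * a⁻¹ * b⁻¹) * (b * a) := by group
      _ = b * a := by rw [e, one_mul]
  · right
    calc a * b = (a * b * a⁻¹ * b⁻¹) * (b * a) := by group
      _ = z * (b * a) := by rw [e]

/-- Transvection lemma.  An involution `f ≠ z` of `C(z)` centralizing `C_E(r)`, `r` a noncentral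
involution of the extraspecial group `E`, is `r` or `r z`. -/
theorem transvection {E : Subgroup G} {z : G} (hES : ES E z)
    (hC : ∀ c, (∀ e ∈ E, e * c = c * e) → c ∈ E)
    (hN : ∀ h, h * z = z * h → ∀ e ∈ E, h * e * h⁻¹ ∈ E)
    {r f : G} (hrE : r ∈ E) (hr : r * r = 1) (hr1 : r ≠ 1) (hrz : r ≠ z)
    (hf : f * f = 1) (hf1 : f ≠ 1) (hfz : f ≠ z) (hfzc : f * z = z * f)
    (hfU : ∀ u ∈ E, u * r = r * u → u * f = f * u) : f = r ∨ f = r * z := by
  have hzE := hES.z_mem
  have hzc := hES.z_central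
  have hzz := hES.z_sq
  have hfi : f⁻¹ = f := inv_eq_of_mul_eq_one_left hf
  have hri : r⁻¹ = r := inv_eq_of_mul_eq_one_left hr
  have hzi : z⁻¹ = z := inv_eq_of_mul_eq_one_left hzz
  have hzr : r * z = z * r := hzc r hrE
  -- elements outside `U`
  have hout : ∀ e ∈ E, e * r ≠ r * e → r * e = z * (e * r) := by
    intro e he hne
    rcases es_rel hES hrE he with h | h
    · exact absurd h.symm hne
    · exact h
  -- two elements outside `U` differ by an element of `U`
  have hdiff : ∀ e ∈ E, ∀ e₁ ∈ E, e * r ≠ r * e → e₁ * r ≠ r * e₁ →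
      (e₁⁻¹ * e) * r = r * (e₁⁻¹ * e) := by
    intro e he e₁ he₁ h1 h2
    have h3 := hout e he h1
    have h4 := hout e₁ he₁ h2
    have h5 : r * e₁⁻¹ = z * (e₁⁻¹ * r) := by
      have hz1 : e₁⁻¹ * z = z * e₁⁻¹ := hzc _ (E.inv_mem he₁)
      calc r * e₁⁻¹ = e₁⁻¹ * (e₁ * r) * e₁⁻¹ := by group
        _ = e₁⁻¹ * (z * z * (e₁ * r)) * e₁⁻¹ := by rw [hzz, one_mul]
        _ = e₁⁻¹ * (z * (r * e₁)) * e₁⁻¹ := by rw [h4]; group
        _ = (e₁⁻¹ * z) * r := by group
        _ = z * (e₁⁻¹ * r) := by rw [hz1, mul_assoc]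
    have hz1 : e₁⁻¹ * z = z * e₁⁻¹ := hzc _ (E.inv_mem he₁)
    calc (e₁⁻¹ * e) * r = e₁⁻¹ * (e * r) := by group
      _ = e₁⁻¹ * (z * z * (e * r)) := by rw [hzz, one_mul]
      _ = e₁⁻¹ * (z * (r * e)) := by rw [h3]; group
      _ = (e₁⁻¹ * z) * (r * e) := by group
      _ = z * (e₁⁻¹ * r) * e := by rw [hz1]; group
      _ = (r * e₁⁻¹) * e := by rw [h5]
      _ = r * (e₁⁻¹ * e) := by group
  -- Step A
  have hA : ∀ e ∈ E, f * e = e * f ∨ f * e = z * (e * f) := by
    intro e he
    by_cases heU : e * r = r * e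
    · left
      exact (hfU e he heU).symm
    -- the element c
    have hez : e * z = z * e := hzc e he
    have he' : f * e * f⁻¹ ∈ E := hN f hfzc e he
    have hcE : f * e * f⁻¹ * e⁻¹ ∈ E := E.mul_mem he' (E.inv_mem he)
    obtain ⟨c, hc⟩ : ∃ c, c = f * e * f⁻¹ * e⁻¹ := ⟨_, rfl⟩
    rw [← hc] at hcE
    have hfe : f * e = c * e * f := by rw [hc]; group
    have hcU : ∀ u ∈ E, u * r = r * u → u * c = c * u := by
      intro u hu hur
      have huf := hfU u hu hur
      have hufi : f⁻¹ * u = u * f⁻¹ := by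
        calc f⁻¹ * u = f⁻¹ * (u * f) * f⁻¹ := by group
          _ = f⁻¹ * (f * u) * f⁻¹ := by rw [huf]
          _ = u * f⁻¹ := by group
      have huz : u * z = z * u := hzc u hu
      rcases es_rel hES he hu with h1 | h1
      · have h2 : f * e * f⁻¹ * u = u * (f * e * f⁻¹) := by
          calc f * e * f⁻¹ * u = f * e * (f⁻¹ * u) := by group
            _ = f * (e * u) * f⁻¹ := by rw [hufi]; group
            _ = (f * u) * e * f⁻¹ := by rw [h1]; group
            _ = u * (f * e * f⁻¹) := by rw [← huf]; group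
        have h3 : e⁻¹ * u = u * e⁻¹ := by
          calc e⁻¹ * u = e⁻¹ * (u * e) * e⁻¹ := by group
            _ = e⁻¹ * (e * u) * e⁻¹ := by rw [h1]
            _ = u * e⁻¹ := by group
        rw [hc]
        calc u * (f * e * f⁻¹ * e⁻¹) = (u * (f * e * f⁻¹)) * e⁻¹ := by group
          _ = (f * e * f⁻¹ * u) * e⁻¹ := by rw [h2]
          _ = (f * e * f⁻¹) * (u * e⁻¹) := by group
          _ = (f * e * f⁻¹) * (e⁻¹ * u) := by rw [h3]
          _ = f * e * f⁻¹ * e⁻¹ * u := by group
      · have h2 : f * e * f⁻¹ * u = z * (u * (f * e * f⁻¹)) := by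
          calc f * e * f⁻¹ * u = f * e * (f⁻¹ * u) := by group
            _ = f * (e * u) * f⁻¹ := by rw [hufi]; group
            _ = f * z * (u * e) * f⁻¹ := by rw [h1]; group
            _ = z * (f * u) * e * f⁻¹ := by rw [hfzc]; group
            _ = z * (u * (f * e * f⁻¹)) := by rw [← huf]; group
        have h3 : u * e⁻¹ = z * (e⁻¹ * u) := by
          have hz1 : e⁻¹ * z = z * e⁻¹ := hzc _ (E.inv_mem he)
          calc u * e⁻¹ = e⁻¹ * (e * u) * e⁻¹ := by group
            _ = e⁻¹ * (z * (u * e)) * e⁻¹ := by rw [h1]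
            _ = (e⁻¹ * z) * u := by group
            _ = z * (e⁻¹ * u) := by rw [hz1, mul_assoc]
        have hz2 : (f * e * f⁻¹) * z = z * (f * e * f⁻¹) := hzc _ he'
        rw [hc]
        calc u * (f * e * f⁻¹ * e⁻¹)
            = z * z * (u * (f * e * f⁻¹)) * e⁻¹ := by rw [hzz]; group
          _ = z * (z * (u * (f * e * f⁻¹))) * e⁻¹ := by group
          _ = z * (f * e * f⁻¹ * u) * e⁻¹ := by rw [h2]
          _ = (z * (f * e * f⁻¹)) * (u * e⁻¹) := by group
          _ = ((f * e * f⁻¹) * z) * (z * (e⁻¹ * u)) := by rw [h3, hz2]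
          _ = (f * e * f⁻¹) * (z * z) * (e⁻¹ * u) := by group
          _ = f * e * f⁻¹ * e⁻¹ * u := by rw [hzz]; group
    -- adjusting by r
    have hre := hout e he heU
    have hcen : ∀ c', c' ∈ E → (∀ u ∈ E, u * r = r * u → u * c' = c' * u) → e * c' = c' * e →
        c' = 1 ∨ c' = z := by
      intro c' hc'E hc'U hc'e
      apply hES.center c' hc'E
      intro v hv
      by_cases hvU : v * r = r * v
      · exact hc'U v hv hvU
      · have h1 := hdiff v hv e he hvU heU
        have h2 := hc'U _ (E.mul_mem (E.inv_mem he) hv) h1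
        have h3 : e⁻¹ * v * c' = c' * (e⁻¹ * v) := h2
        calc v * c' = e * (e⁻¹ * v * c') := by group
          _ = e * (c' * (e⁻¹ * v)) := by rw [h3]
          _ = (e * c') * (e⁻¹ * v) := by group
          _ = (c' * e) * (e⁻¹ * v) := by rw [hc'e]
          _ = c' * v := by group
    have hconj : f * e * f⁻¹ = c * e := by rw [hc]; group
    rcases es_rel hES hcE he with h1 | h1
    · -- c commutes with e
      rcases hcen c hcE hcU h1.symm with h2 | h2
      · left
        rw [hfe, h2]; group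
      · right
        rw [hfe, h2]; group
    · -- c * r commutes with e: contradiction
      exfalso
      have h2' : (c * r) * e = e * (c * r) := by
        have hzc' : c * z = z * c := hzc c hcE
        calc (c * r) * e = c * (r * e) := by group
          _ = c * (z * (e * r)) := by rw [hre]
          _ = (c * z) * (e * r) := by group
          _ = z * (c * e) * r := by rw [hzc']; group
          _ = z * (z * (e * c)) * r := by rw [h1]
          _ = (z * z) * (e * (c * r)) := by group
          _ = e * (c * r) := by rw [hzz, one_mul]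
      have h2 : e * (c * r) = (c * r) * e := h2'.symm
      have h3 : c * c = 1 := by
        rcases hcen (c * r) (E.mul_mem hcE hrE) (by
          intro u hu hur
          have := hcU u hu hur
          calc u * (c * r) = (u * c) * r := by group
            _ = c * (u * r) := by rw [this]; group
            _ = c * r * u := by rw [hur]; group) h2 with h3 | h3
        · have : c = r := by
            calc c = (c * r) * r⁻¹ := by group
              _ = r := by rw [h3, hri, one_mul]
          rw [this, hr]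
        · have : c = z * r := by
            calc c = (c * r) * r⁻¹ := by group
              _ = z * r := by rw [h3, hri]
          rw [this]
          calc z * r * (z * r) = z * (r * z) * r := by group
            _ = z * (z * r) * r := by rw [hzr]
            _ = (z * z) * (r * r) := by group
            _ = 1 := by rw [hzz, hr, one_mul]
      -- squares
      have h4 : f * (e * e) * f⁻¹ = e * e := by
        rcases hES.sq e he with h5 | h5
        · rw [h5]; group
        · rw [h5, hfzc]; group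
      have h5 : (f * e * f⁻¹) * (f * e * f⁻¹) = f * (e * e) * f⁻¹ := by group
      have h6 : (c * e) * (c * e) = z * (e * e) := by
        calc (c * e) * (c * e) = (z * (e * c)) * (c * e) := by rw [h1]
          _ = z * e * (c * c) * e := by group
          _ = z * (e * e) := by rw [h3]; group
      rw [hconj, h6] at h5
      rw [h4] at h5
      apply hES.z_ne
      calc z = z * (e * e) * (e * e)⁻¹ := by group
        _ = 1 := by rw [h5]; group
  -- Step B
  by_cases hall : ∀ e ∈ E, e * f = f * e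
  · exfalso
    have hfE := hC f hall
    rcases hES.center f hfE hall with h | h
    · exact hf1 h
    · exact hfz h
  push Not at hall
  obtain ⟨e₁, he₁, hne⟩ := hall
  have hfe₁ : f * e₁ = z * (e₁ * f) := by
    rcases hA e₁ he₁ with h | h
    · exact absurd h.symm hne
    · exact h
  have he₁U : e₁ * r ≠ r * e₁ := fun h => hne (hfU e₁ he₁ h)
  have hfr : ∀ e ∈ E, e * (f * r) = (f * r) * e := by
    intro e he
    by_cases heU : e * r = r * e
    · have h1 := hfU e he heU
      calc e * (f * r) = (e * f) * r := by group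
        _ = f * (e * r) := by rw [h1]; group
        _ = f * (r * e) := by rw [heU]
        _ = (f * r) * e := by group
    · have hre := hout e he heU
      have hu := hdiff e he e₁ he₁ heU he₁U
      have huE : e₁⁻¹ * e ∈ E := E.mul_mem (E.inv_mem he₁) he
      have huf := hfU _ huE hu
      have hfe : f * e = z * (e * f) := by
        calc f * e = f * e₁ * (e₁⁻¹ * e) := by group
          _ = z * (e₁ * f) * (e₁⁻¹ * e) := by rw [hfe₁]
          _ = z * e₁ * (f * (e₁⁻¹ * e)) := by group
          _ = z * e₁ * ((e₁⁻¹ * e) * f) := by rw [huf]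
          _ = z * (e * f) := by group
      calc e * (f * r) = z * z * (e * f) * r := by rw [hzz]; group
        _ = z * (z * (e * f)) * r := by group
        _ = z * (f * e) * r := by rw [hfe]
        _ = (z * f) * (e * r) := by group
        _ = (f * z) * (e * r) := by rw [hfzc]
        _ = f * (z * (e * r)) := by group
        _ = f * (r * e) := by rw [hre]
        _ = (f * r) * e := by group
  have hfrE := hC _ hfr
  rcases hES.center _ hfrE hfr with h | h
  · left
    calc f = (f * r) * r⁻¹ := by group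
      _ = r := by rw [h, hri, one_mul]
  · right
    calc f = (f * r) * r⁻¹ := by group
      _ = z * r := by rw [h, hri]
      _ = r * z := hzr.symm

theorem es_pgroup {E : Subgroup G} {z : G} (h : ES E z) : IsPGroup 2 E := by
  intro e
  refine ⟨2, ?_⟩
  apply Subtype.ext
  show ((e : G) ^ 2 ^ 2) = 1
  have h1 : (e : G) ^ 2 ^ 2 = (e * e) * (e * e) := by
    norm_num [pow_succ]; group
  rw [h1]
  rcases h.sq e e.2 with h2 | h2
  · rw [h2, one_mul]
  · rw [h2, h.z_sq]

theorem card_of_index_two [Finite G] {E A : Subgroup G} (hAE : A ≤ E) {e₀ : G} (he₀ : e₀ ∈ E)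
    (he₀A : e₀ ∉ A) (hb : ∀ b ∈ E, b ∉ A → b * e₀ ∈ A) : 2 * Nat.card A = Nat.card E := by
  have h1 : (A.subgroupOf E).index = 2 := by
    rw [Subgroup.index_eq_two_iff]
    refine ⟨⟨e₀, he₀⟩, ?_⟩
    rintro ⟨b, hbE⟩
    simp only [Subgroup.mem_subgroupOf, Subgroup.coe_mul]
    by_cases hbA : b ∈ A
    · right
      refine ⟨hbA, fun h => he₀A ?_⟩
      have := A.mul_mem (A.inv_mem hbA) h
      simpa using this
    · left
      exact ⟨hb b hbE hbA, hbA⟩
  have h2 := Subgroup.card_mul_index (A.subgroupOf E)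
  rw [h1] at h2
  have h3 : Nat.card ↥(A.subgroupOf E) = Nat.card A :=
    Nat.card_congr (Subgroup.subgroupOfEquivOfLe hAE).toEquiv
  rw [h3] at h2
  omega

theorem es_abelian_card [Finite G] {E : Subgroup G} {z : G} (h : ES E z) (A : Subgroup G) (hAE : A ≤ E)
    (hzA : z ∈ A) (hcon : ∀ a ∈ A, ∀ b ∈ A, a * b = b * a) :
    Nat.card A * Nat.card A ≤ 2 * Nat.card E := by
  have h1 := h.card_centralizer_mul A hAE hzA
  have hle : A ≤ E ⊓ centralizer (A : Set G) := fun a ha =>
    ⟨hAE ha, mem_centralizer_iff.mpr (fun b hb => hcon b hb a ha)⟩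
  have h2 : Nat.card A ≤ Nat.card ↥(E ⊓ centralizer (A : Set G)) :=
    Nat.card_le_card_of_injective (inclusion hle) (inclusion_injective hle)
  rw [← h1]
  exact Nat.mul_le_mul_right _ h2

theorem es_nonabelian [Finite G] {E : Subgroup G} {z : G} (h : ES E z) (A : Subgroup G) (hAE : A ≤ E)
    (hzA : z ∈ A) (hc : 2 * Nat.card A = Nat.card E) (h8 : 8 < Nat.card E) :
    ∃ a ∈ A, ∃ b ∈ A, a * b ≠ b * a := by
  by_contra hcon
  push Not at hcon
  have h1 := es_abelian_card h A hAE hzA hcon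
  have hApos : 0 < Nat.card A := Nat.card_pos
  rw [← hc] at h1 h8
  have h3 : Nat.card A ≤ 4 := by
    by_contra h5
    push Not at h5
    nlinarith
  omega

theorem exists_normalizing' {S R : Subgroup G} [Finite G] (hp : IsPGroup 2 S) (hlt : R < S) :
    ∃ g ∈ S, g ∉ R ∧ g ∈ normalizer (R : Set G) := by
  haveI : Group.IsNilpotent S := hp.isNilpotent
  have hcond := Group.normalizerCondition_of_isNilpotent (G := S)
  have hlt' : R.subgroupOf S < ⊤ := by
    rw [lt_top_iff_ne_top]
    intro htop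
    apply hlt.not_ge
    intro t ht
    have : (⟨t, ht⟩ : S) ∈ R.subgroupOf S := by rw [htop]; trivial
    exact this
  obtain ⟨g, hgN, hgR⟩ := SetLike.exists_of_lt (hcond _ hlt')
  refine ⟨g, g.2, hgR, ?_⟩
  rw [mem_normalizer_iff]
  intro c
  constructor
  · intro hc
    exact (mem_normalizer_iff.mp hgN ⟨c, hlt.le hc⟩).1 hc
  · intro hc
    have h0 : c ∈ S := by
      have : c = (g : G)⁻¹ * ((g : G) * c * (g : G)⁻¹) * (g : G) := by group
      rw [this]
      exact S.mul_mem (S.mul_mem (S.inv_mem g.2) (hlt.le hc)) g.2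
    exact (mem_normalizer_iff.mp hgN ⟨c, h0⟩).2 hc

open scoped Pointwise in
theorem mem_smul_sylow' (P : Sylow 2 G) (g c : G) : c ∈ (g • P) ↔ g⁻¹ * c * g ∈ P := by
  show c ∈ ((g • P : Sylow 2 G) : Subgroup G) ↔ _
  rw [Sylow.coe_subgroup_smul, Subgroup.mem_pointwise_smul_iff_inv_smul_mem]
  simp [MulAut.smul_def]
  rfl

/-- A 2-subgroup of `H ≥ T` is conjugate in `H` into the Sylow subgroup `T` of `G`. -/
theorem sylow_conj_in [Finite G] (T : Sylow 2 G) (H : Subgroup G) (hTH : (T : Subgroup G) ≤ H)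
    (R : Subgroup G) (hR : IsPGroup 2 R) (hRH : R ≤ H) :
    ∃ h ∈ H, ∀ r ∈ R, h⁻¹ * r * h ∈ (T : Subgroup G) := by
  haveI hp2 : Fact (Nat.Prime 2) := ⟨Nat.prime_two⟩
  let T' : Sylow 2 H := T.subtype hTH
  have hR' : IsPGroup 2 (R.subgroupOf H) := hR.comap_of_injective H.subtype
    Subtype.val_injective
  obtain ⟨Q, hQ⟩ := hR'.exists_le_sylow
  obtain ⟨h, hh⟩ := MulAction.exists_smul_eq H T' Q
  refine ⟨h, h.2, ?_⟩
  intro r hr
  have h1 : (⟨r, hRH hr⟩ : H) ∈ Q := hQ hr
  rw [← hh] at h1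
  have h2 := (mem_smul_sylow' T' h _).mp h1
  have h3 : (h⁻¹ * ⟨r, hRH hr⟩ * h : H) ∈ (T' : Subgroup H) := h2
  rw [Sylow.coe_subtype, Subgroup.mem_subgroupOf] at h3
  exact h3

/-- Any homomorphism of `C(z)` into an abelian 2-group with a unique involution kills `E`
when the width of `E` is at least 2. -/
theorem kills_extraspecial [Finite G] (hres : Cfsg.pResidual 2 G = ⊤) {E : Subgroup G} {z : G}
    (hES : ES E z) (hC : ∀ c, (∀ e ∈ E, e * c = c * e) → c ∈ E)
    (hN : ∀ h, h * z = z * h → ∀ e ∈ E, h * e * h⁻¹ ∈ E)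
    (h8 : 8 < Nat.card E) {A : Type*} [CommGroup A] (hA : IsPGroup 2 A)
    (ψ : ↥(centralizer ({z} : Set G)) →* A) (a : A) (ha : orderOf a = 2)
    (huniq : ∀ b : A, b ^ 2 = 1 → b = 1 ∨ b = a)
    (e : G) (he : e ∈ E) (heH : e ∈ centralizer ({z} : Set G)) : ψ ⟨e, heH⟩ = 1 := by
  classical
  by_contra hne
  have ha1 : a ≠ 1 := by
    rintro rfl
    simp at ha
  have haa : a * a = 1 := by
    rw [← pow_two, ← ha]; exact pow_orderOf_eq_one a
  have hzc := hES.z_central
  have hzz := hES.z_sq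
  have hzE := hES.z_mem
  have hzi : z⁻¹ = z := inv_eq_of_mul_eq_one_left hzz
  have hmemH : ∀ c : G, c * z = z * c → c ∈ centralizer ({z} : Set G) := fun c hc =>
    mem_centralizer_singleton_iff.mpr hc
  -- extension of ψ
  let Ψ : G → A := fun c => if h : c ∈ centralizer ({z} : Set G) then ψ ⟨c, h⟩ else 1
  have hΨdef : ∀ c (h : c ∈ centralizer ({z} : Set G)), Ψ c = ψ ⟨c, h⟩ := fun c h => dif_pos h
  have hΨm : ∀ b c : G, b * z = z * b → c * z = z * c → Ψ (b * c) = Ψ b * Ψ c := by
    intro b c hb hc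
    have h1 := hmemH b hb
    have h2 := hmemH c hc
    rw [hΨdef _ (mul_mem h1 h2), hΨdef _ h1, hΨdef _ h2, ← map_mul]
    rfl
  have hΨ1 : Ψ 1 = 1 := by
    rw [hΨdef _ (one_mem _)]
    exact map_one ψ
  have hΨi : ∀ b : G, b * z = z * b → Ψ b⁻¹ = (Ψ b)⁻¹ := by
    intro b hb
    have h1 := hmemH b hb
    rw [hΨdef _ (inv_mem h1), hΨdef _ h1, ← map_inv]
    rfl
  have hinvH : ∀ b : G, b * z = z * b → b⁻¹ * z = z * b⁻¹ := fun b hb =>
    mem_centralizer_singleton_iff.mp (inv_mem (hmemH b hb))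
  have hmulH : ∀ b c : G, b * z = z * b → c * z = z * c → (b * c) * z = z * (b * c) := fun b c hb hc =>
    mem_centralizer_singleton_iff.mp (mul_mem (hmemH b hb) (hmemH c hc))
  have hΨconj : ∀ b c : G, b * z = z * b → c * z = z * c → Ψ (b * c * b⁻¹) = Ψ c := by
    intro b c hb hc
    rw [hΨm _ _ (hmulH _ _ hb hc) (hinvH b hb), hΨm _ _ hb hc, hΨi b hb, mul_comm (Ψ b), mul_assoc,
      mul_inv_cancel, mul_one]
  have hΨcomm : ∀ b c : G, b * z = z * b → c * z = z * c → Ψ (b * c * b⁻¹ * c⁻¹) = 1 := by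
    intro b c hb hc
    rw [hΨm _ _ (hmulH _ _ (hmulH _ _ hb hc) (hinvH b hb)) (hinvH c hc), hΨconj b c hb hc, hΨi c hc,
      mul_inv_cancel]
  -- z is a commutator
  have hEna : ∃ a₀ ∈ E, ∃ b₀ ∈ E, a₀ * b₀ ≠ b₀ * a₀ := by
    by_contra hcon
    push Not at hcon
    have h1 := es_abelian_card hES E le_rfl hzE hcon
    have h2 : 0 < Nat.card E := Nat.card_pos
    nlinarith
  obtain ⟨a₀, ha₀, b₀, hb₀, hab⟩ := hEna
  have hcmz : ∀ p ∈ E, ∀ q ∈ E, p * q ≠ q * p → p * q * p⁻¹ * q⁻¹ = z := by
    intro p hp q hq hpq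
    refine (hES.comm p hp q hq).resolve_left ?_
    intro h0
    apply hpq
    calc p * q = (p * q * p⁻¹ * q⁻¹) * (q * p) := by group
      _ = q * p := by rw [h0, one_mul]
  have hΨz : Ψ z = 1 := by
    rw [← hcmz a₀ ha₀ b₀ hb₀ hab]
    exact hΨcomm _ _ (hzc _ ha₀) (hzc _ hb₀)
  have hΨE : ∀ c ∈ E, Ψ c = 1 ∨ Ψ c = a := by
    intro c hc
    apply huniq
    rw [pow_two, ← hΨm _ _ (hzc c hc) (hzc c hc)]
    rcases hES.sq c hc with h1 | h1
    · rw [h1, hΨ1]
    · rw [h1, hΨz]
  have hΨe : Ψ e = a := by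
    refine (hΨE e he).resolve_left ?_
    rw [hΨdef e heH]
    exact hne
  -- a noncentral involution outside the kernel
  have hx : ∃ x ∈ E, x * x = 1 ∧ Ψ x = a := by
    by_contra hno
    push Not at hno
    have hsq : ∀ d ∈ E, Ψ d = a → d * d = z := by
      intro d hd hdΨ
      rcases hES.sq d hd with h1 | h1
      · exact absurd hdΨ (hno d hd h1)
      · exact h1
    let D : Subgroup G :=
      { carrier := {c | c ∈ E ∧ Ψ c = 1}
        one_mem' := ⟨E.one_mem, hΨ1⟩
        mul_mem' := by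
          rintro b c ⟨hb, hb1⟩ ⟨hc, hc1⟩
          refine ⟨E.mul_mem hb hc, ?_⟩
          rw [hΨm _ _ (hzc b hb) (hzc c hc), hb1, hc1, one_mul]
        inv_mem' := by
          rintro b ⟨hb, hb1⟩
          refine ⟨E.inv_mem hb, ?_⟩
          rw [hΨi _ (hzc b hb), hb1, inv_one] }
    have hDE : D ≤ E := fun c hc => hc.1
    have hzD : z ∈ D := ⟨hzE, hΨz⟩
    have he₀D : e ∉ D := fun h => ha1 (hΨe.symm.trans h.2)
    have hcard : 2 * Nat.card D = Nat.card E := by
      apply card_of_index_two hDE he he₀D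
      intro b hb hbD
      refine ⟨E.mul_mem hb he, ?_⟩
      rw [hΨm _ _ (hzc b hb) (hzc e he), hΨe]
      have : Ψ b = a := (hΨE b hb).resolve_left (fun h => hbD ⟨hb, h⟩)
      rw [this, haa]
    obtain ⟨d₁, hd₁, d₂, hd₂, hdne⟩ := es_nonabelian hES D hDE hzD hcard h8
    have hee : e * e = z := hsq e he hΨe
    have hkey : ∀ d ∈ D, e * d = (d * d) * (d * e) := by
      intro d hd
      have hdE := hDE hd
      have h1 : (e * d) * (e * d) = z := by
        apply hsq _ (E.mul_mem he hdE)
        rw [hΨm _ _ (hzc e he) (hzc d hdE), hΨe, hd.2, mul_one]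
      rcases es_rel hES he hdE with h2 | h2
      · have h3 : d * d = 1 := by
          have h4 : (e * d) * (e * d) = z * (d * d) := by
            calc (e * d) * (e * d) = (d * e) * (e * d) := by rw [h2]
              _ = d * (e * e) * d := by group
              _ = d * z * d := by rw [hee]
              _ = z * (d * d) := by rw [hzc d hdE]; group
          rw [h4] at h1
          calc d * d = z⁻¹ * (z * (d * d)) := by group
            _ = 1 := by rw [h1]; group
        rw [h3, one_mul, h2]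
      · have h3 : d * d = z := by
          have h4 : (e * d) * (e * d) = d * d := by
            calc (e * d) * (e * d) = (z * (d * e)) * (e * d) := by rw [h2]
              _ = z * d * (e * e) * d := by group
              _ = z * d * z * d := by rw [hee]
              _ = z * (d * z) * d := by group
              _ = z * (z * d) * d := by rw [hzc d hdE]
              _ = (z * z) * (d * d) := by group
              _ = d * d := by rw [hzz, one_mul]
          rw [← h4, h1]
        rw [h3, h2]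
    have hd₃ := hkey (d₁ * d₂) (D.mul_mem hd₁ hd₂)
    have hk1 := hkey d₁ hd₁
    have hk2 := hkey d₂ hd₂
    have hd₂E := hDE hd₂
    have hd₁E := hDE hd₁
    have hcent : (d₂ * d₂) * d₁ = d₁ * (d₂ * d₂) := by
      rcases hES.sq d₂ hd₂E with h1 | h1
      · rw [h1, one_mul, mul_one]
      · rw [h1]; exact (hzc d₁ hd₁E).symm
    have h5 : e * (d₁ * d₂) = (d₁ * d₁) * (d₂ * d₂) * ((d₁ * d₂) * e) := by
      calc e * (d₁ * d₂) = (e * d₁) * d₂ := by group
        _ = (d₁ * d₁) * (d₁ * e) * d₂ := by rw [hk1]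
        _ = (d₁ * d₁) * d₁ * (e * d₂) := by group
        _ = (d₁ * d₁) * d₁ * ((d₂ * d₂) * (d₂ * e)) := by rw [hk2]
        _ = (d₁ * d₁) * (d₁ * (d₂ * d₂)) * (d₂ * e) := by group
        _ = (d₁ * d₁) * ((d₂ * d₂) * d₁) * (d₂ * e) := by rw [hcent]
        _ = (d₁ * d₁) * (d₂ * d₂) * ((d₁ * d₂) * e) := by group
    rw [hd₃] at h5
    have h6 := mul_right_cancel h5
    apply hdne
    have h7 : d₁ * (d₂ * d₁) * d₂ = d₁ * (d₁ * d₂) * d₂ := by
      calc d₁ * (d₂ * d₁) * d₂ = (d₁ * d₂) * (d₁ * d₂) := by group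
        _ = (d₁ * d₁) * (d₂ * d₂) := h6
        _ = d₁ * (d₁ * d₂) * d₂ := by group
    have h8' := mul_left_cancel (mul_right_cancel h7)
    exact h8'.symm
  obtain ⟨x, hxE, hxx, hΨx⟩ := hx
  have hΨne : ∀ c : G, Ψ c = a → c ≠ 1 ∧ c ≠ z := by
    intro c hc
    constructor
    · rintro rfl
      exact ha1 (hc.symm.trans hΨ1)
    · rintro rfl
      exact ha1 (hc.symm.trans hΨz)
  -- a Sylow subgroup in C(z)
  obtain ⟨T, hET⟩ := (es_pgroup hES).exists_le_sylow
  have hTH : ∀ t ∈ (T : Subgroup G), t * z = z * t := by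
    haveI : Nontrivial ↥(T : Subgroup G) := by
      refine ⟨⟨⟨z, hET hzE⟩, 1, ?_⟩⟩
      intro h0
      exact hES.z_ne (congrArg Subtype.val h0)
    haveI := T.isPGroup'.center_nontrivial
    obtain ⟨w, hw⟩ := exists_ne (1 : Subgroup.center ↥(T : Subgroup G))
    have hwT : ∀ t ∈ (T : Subgroup G), t * ((w : ↥(T : Subgroup G)) : G) = ((w : ↥(T : Subgroup G)) : G) * t := by
      intro t ht
      have := Subgroup.mem_center_iff.mp w.2 ⟨t, ht⟩
      exact congrArg Subtype.val this
    have hwE : ((w : ↥(T : Subgroup G)) : G) ∈ E := hC _ (fun c hc => hwT c (hET hc))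
    have hwc := hES.center _ hwE (fun c hc => hwT c (hET hc))
    have hw1 : ((w : ↥(T : Subgroup G)) : G) ≠ 1 := by
      intro h0
      apply hw
      apply Subtype.ext
      apply Subtype.ext
      exact h0
    have hwz := hwc.resolve_left hw1
    rw [← hwz]
    exact hwT
  have hTle : (T : Subgroup G) ≤ centralizer ({z} : Set G) := fun t ht => hmemH t (hTH t ht)
  let χ : ↥(T : Subgroup G) →* A := ψ.comp (inclusion hTle)
  have hχ : ∀ (t : G) (ht : t ∈ (T : Subgroup G)), χ ⟨t, ht⟩ = Ψ t := by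
    intro t ht
    rw [hΨdef t (hTle ht)]
    rfl
  have hval : ∀ t : ↥(T : Subgroup G), t ^ 2 = 1 → χ t = 1 ∨ χ t = a := by
    intro t ht
    apply huniq
    rw [← map_pow, ht, map_one]
  have hRp : IsPGroup 2 ↥(E ⊓ centralizer ({x} : Set G)) :=
    (es_pgroup hES).to_le inf_le_left
  obtain ⟨g, hm, hχg, hRg⟩ := transfer_fixed hres T hA χ a ha hval x (by rw [pow_two, hxx])
    (E ⊓ centralizer ({x} : Set G)) hRp (fun r hr => mem_centralizer_singleton_iff.mp hr.2)
  rw [hχ] at hχg
  -- the conjugate of z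
  obtain ⟨y, hy⟩ : ∃ y, y = g * z * g⁻¹ := ⟨_, rfl⟩
  have hconj : ∀ u, g⁻¹ * u * g ∈ (T : Subgroup G) → u * y = y * u := by
    intro u hu
    have h1 := hTH _ hu
    rw [hy]
    calc u * (g * z * g⁻¹) = g * ((g⁻¹ * u * g) * z) * g⁻¹ := by group
      _ = g * (z * (g⁻¹ * u * g)) * g⁻¹ := by rw [h1]
      _ = (g * z * g⁻¹) * u := by group
  have hyy : y * y = 1 := by
    rw [hy]
    calc g * z * g⁻¹ * (g * z * g⁻¹) = g * (z * z) * g⁻¹ := by group
      _ = 1 := by rw [hzz]; group
  have hy1 : y ≠ 1 := by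
    intro h0
    rw [hy] at h0
    apply hES.z_ne
    calc z = g⁻¹ * (g * z * g⁻¹) * g := by group
      _ = 1 := by rw [h0]; group
  have hzR : z ∈ E ⊓ centralizer ({x} : Set G) :=
    ⟨hzE, mem_centralizer_singleton_iff.mpr (hzc x hxE).symm⟩
  have hyz : y * z = z * y := (hconj z (hRg z hzR)).symm
  have hyne : y ≠ z := by
    intro h0
    rw [hy] at h0
    have hgz : g * z = z * g := by
      calc g * z = (g * z * g⁻¹) * g := by group
        _ = z * g := by rw [h0]
    have hgi := hinvH g hgz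
    have h1 : Ψ (g⁻¹ * x * g) = Ψ x := by
      have h2 := hΨconj g⁻¹ x hgi (hzc x hxE)
      rwa [inv_inv] at h2
    rw [hΨx, hχg] at h1
    exact ha1 h1.symm
  have hxz : x * z = z * x := hzc x hxE
  have hx1 : x ≠ 1 ∧ x ≠ z := hΨne x hΨx
  have htv := transvection hES hC hN hxE hxx hx1.1 hx1.2 hyy hy1 hyne hyz (by
    intro u hu hux
    exact hconj u (hRg u ⟨hu, mem_centralizer_singleton_iff.mpr hux⟩))
  have hyE : y ∈ E := by
    rcases htv with h0 | h0
    · rw [h0]; exact hxE
    · rw [h0]; exact E.mul_mem hxE hzE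
  have hΨy : Ψ y = a := by
    rcases htv with h0 | h0
    · rw [h0]; exact hΨx
    · rw [h0, hΨm _ _ (hzc x hxE) rfl, hΨx, hΨz, mul_one]
  have hy2 : y ≠ 1 ∧ y ≠ z := hΨne y hΨy
  -- the Sylow subgroup of C(y) containing C_E(y)
  obtain ⟨U, hU⟩ : ∃ U : Subgroup G, U = E ⊓ centralizer ({y} : Set G) := ⟨_, rfl⟩
  have hUE : U ≤ E := by rw [hU]; exact inf_le_left
  have hUc : ∀ u ∈ U, u * y = y * u := by
    intro u hu
    rw [hU] at hu
    exact mem_centralizer_singleton_iff.mp hu.2
  have hUm : ∀ u ∈ E, u * y = y * u → u ∈ U := by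
    intro u hu huy
    rw [hU]
    exact ⟨hu, mem_centralizer_singleton_iff.mpr huy⟩
  have hzU : z ∈ U := hUm z hzE hyz.symm
  have hRH : U.map (MulAut.conj g⁻¹).toMonoidHom ≤ centralizer ({z} : Set G) := by
    rintro _ ⟨u, hu, rfl⟩
    apply hmemH
    have h1 := hUc u hu
    simp only [MulEquiv.coe_toMonoidHom, MulAut.conj_apply, inv_inv]
    rw [hy] at h1
    calc g⁻¹ * u * g * z = g⁻¹ * (u * (g * z * g⁻¹)) * g := by group
      _ = g⁻¹ * ((g * z * g⁻¹) * u) * g := by rw [h1]
      _ = z * (g⁻¹ * u * g) := by group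
  obtain ⟨h, hhH, hh⟩ := sylow_conj_in T _ hTle _
    (((es_pgroup hES).to_le hUE).map (MulAut.conj g⁻¹).toMonoidHom) hRH
  have hhz : h * z = z * h := mem_centralizer_singleton_iff.mp hhH
  obtain ⟨k, hk⟩ : ∃ k, k = g * h := ⟨_, rfl⟩
  have hkz : k * z * k⁻¹ = y := by
    rw [hk, hy]
    calc g * h * z * (g * h)⁻¹ = g * (h * z) * h⁻¹ * g⁻¹ := by group
      _ = g * (z * h) * h⁻¹ * g⁻¹ := by rw [hhz]
      _ = g * z * g⁻¹ := by group
  have hUk : ∀ u ∈ U, k⁻¹ * u * k ∈ (T : Subgroup G) := by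
    intro u hu
    have h1 := hh _ ⟨u, hu, rfl⟩
    simp only [MulEquiv.coe_toMonoidHom, MulAut.conj_apply, inv_inv] at h1
    have e2 : k⁻¹ * u * k = h⁻¹ * (g⁻¹ * u * g) * h := by rw [hk]; group
    rw [e2]
    exact h1
  obtain ⟨P, hP⟩ : ∃ P : Sylow 2 G, P = k • T := ⟨_, rfl⟩
  have hPmem : ∀ c, c ∈ (P : Subgroup G) ↔ k⁻¹ * c * k ∈ (T : Subgroup G) := by
    intro c
    rw [hP]
    exact mem_smul_sylow' T k c
  have hUP : U ≤ (P : Subgroup G) := fun u hu => (hPmem u).mpr (hUk u hu)
  have hPy : ∀ p ∈ (P : Subgroup G), p * y = y * p := by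
    intro p hp
    have h1 := hTH _ ((hPmem p).mp hp)
    rw [← hkz]
    calc p * (k * z * k⁻¹) = k * ((k⁻¹ * p * k) * z) * k⁻¹ := by group
      _ = k * (z * (k⁻¹ * p * k)) * k⁻¹ := by rw [h1]
      _ = (k * z * k⁻¹) * p := by group
  -- P is not in C(z)
  have hPH : ¬ (P : Subgroup G) ≤ centralizer ({z} : Set G) := by
    intro hle
    have hnorm : (P : Subgroup G) ≤ normalizer (E : Set G) := by
      intro p hp
      have hpz : p * z = z * p := mem_centralizer_singleton_iff.mp (hle hp)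
      rw [mem_normalizer_iff]
      intro c
      constructor
      · exact hN p hpz c
      · intro hc
        have h1 := hN p⁻¹ (hinvH p hpz) _ hc
        have e2 : p⁻¹ * (p * c * p⁻¹) * p⁻¹⁻¹ = c := by group
        rwa [e2] at h1
    have hsup : IsPGroup 2 ↥((P : Subgroup G) ⊔ E) :=
      IsPGroup.to_sup_of_normal_right' P.isPGroup' (es_pgroup hES) hnorm
    have h1 := P.is_maximal' hsup le_sup_left
    have hEP : E ≤ (P : Subgroup G) := by
      rw [← h1]
      exact le_sup_right
    rcases hES.center y hyE (fun q hq => hPy q (hEP hq)) with h2 | h2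
    · exact hy1 h2
    · exact hyne h2
  -- the element w
  obtain ⟨J, hJ⟩ : ∃ J : Subgroup G, J = (P : Subgroup G) ⊓ centralizer ({z} : Set G) := ⟨_, rfl⟩
  have hJP : J ≤ (P : Subgroup G) := by rw [hJ]; exact inf_le_left
  have hJH : ∀ j ∈ J, j * z = z * j := by
    intro j hj
    rw [hJ] at hj
    exact mem_centralizer_singleton_iff.mp hj.2
  have hJm : ∀ c ∈ (P : Subgroup G), c * z = z * c → c ∈ J := by
    intro c hc hcz
    rw [hJ]
    exact ⟨hc, mem_centralizer_singleton_iff.mpr hcz⟩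
  have hlt : J < (P : Subgroup G) := by
    refine lt_of_le_of_ne hJP ?_
    intro h0
    apply hPH
    rw [← h0]
    intro j hj
    exact mem_centralizer_singleton_iff.mpr (hJH j hj)
  obtain ⟨w, hwP, hwJ, hwN⟩ := exists_normalizing' P.isPGroup' hlt
  have hwz : w * z ≠ z * w := fun h0 => hwJ (hJm w hwP h0)
  have hwy := hPy w hwP
  have hzJ : z ∈ J := hJm z (hUP hzU) rfl
  have hwiN : w⁻¹ ∈ normalizer (J : Set G) := inv_mem hwN
  have hnJ : ∀ c ∈ J, w⁻¹ * c * w ∈ J := by
    intro c hc
    have h1 := (mem_normalizer_iff.mp hwiN c).mp hc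
    rwa [inv_inv] at h1
  have hnJ' : ∀ c ∈ J, w * c * w⁻¹ ∈ J := fun c hc => (mem_normalizer_iff.mp hwN c).mp hc
  obtain ⟨f, hf⟩ : ∃ f, f = w⁻¹ * z * w := ⟨_, rfl⟩
  have hJf : ∀ j ∈ J, j * f = f * j := by
    intro j hj
    have h1 := hJH _ (hnJ' j hj)
    rw [hf]
    calc j * (w⁻¹ * z * w) = w⁻¹ * ((w * j * w⁻¹) * z) * w := by group
      _ = w⁻¹ * (z * (w * j * w⁻¹)) * w := by rw [h1]
      _ = (w⁻¹ * z * w) * j := by group
  have hff : f * f = 1 := by
    rw [hf]
    calc w⁻¹ * z * w * (w⁻¹ * z * w) = w⁻¹ * (z * z) * w := by group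
      _ = 1 := by rw [hzz]; group
  have hf1 : f ≠ 1 := by
    intro h0
    rw [hf] at h0
    apply hES.z_ne
    calc z = w * (w⁻¹ * z * w) * w⁻¹ := by group
      _ = 1 := by rw [h0]; group
  have hfz : f ≠ z := by
    intro h0
    rw [hf] at h0
    apply hwz
    calc w * z = w * (w⁻¹ * z * w) := by rw [h0]
      _ = z * w := by group
  have htv2 := transvection hES hC hN hyE hyy hy1 hyne hff hf1 hfz (hJf z hzJ).symm (by
    intro u hu huy
    have huU := hUm u hu huy
    exact hJf u (hJm u (hUP huU) (hzc u hu)))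
  have hfy : f = y * z := by
    refine htv2.resolve_left ?_
    intro h0
    rw [hf] at h0
    apply hyne
    calc y = w * y * w⁻¹ := by rw [hwy]; group
      _ = w * (w⁻¹ * z * w) * w⁻¹ := by rw [h0]
      _ = z := by group
  have hΨf : Ψ f = a := by
    rw [hfy, hΨm _ _ (hzc y hyE) rfl, hΨy, hΨz, mul_one]
  -- U is nonabelian
  have hUcard : 2 * Nat.card U = Nat.card E := by
    have hnc : ¬ ∀ q ∈ E, q * y = y * q := fun hc => by
      rcases hES.center y hyE hc with h2 | h2
      · exact hy1 h2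
      · exact hyne h2
    push Not at hnc
    obtain ⟨e₀, he₀, he₀y⟩ := hnc
    apply card_of_index_two hUE he₀ (fun h0 => he₀y (hUc e₀ h0))
    intro b hb hbU
    apply hUm _ (E.mul_mem hb he₀)
    have hby : b * y ≠ y * b := fun h0 => hbU (hUm b hb h0)
    have h1 : b * y = z * (y * b) := (es_rel hES hb hyE).resolve_left hby
    have h2 : e₀ * y = z * (y * e₀) := (es_rel hES he₀ hyE).resolve_left he₀y
    calc b * e₀ * y = b * (e₀ * y) := by group
      _ = b * (z * (y * e₀)) := by rw [h2]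
      _ = (b * z) * (y * e₀) := by group
      _ = (z * b) * (y * e₀) := by rw [hzc b hb]
      _ = z * (b * y) * e₀ := by group
      _ = z * (z * (y * b)) * e₀ := by rw [h1]
      _ = (z * z) * (y * (b * e₀)) := by group
      _ = y * (b * e₀) := by rw [hzz, one_mul]
  obtain ⟨a₁, ha₁, b₁, hb₁, hab₁⟩ := es_nonabelian hES U hUE hzU hUcard h8
  have hz₁ := hcmz a₁ (hUE ha₁) b₁ (hUE hb₁) hab₁
  have ha₂ : w⁻¹ * a₁ * w ∈ J := hnJ _ (hJm a₁ (hUP ha₁) (hzc a₁ (hUE ha₁)))
  have hb₂ : w⁻¹ * b₁ * w ∈ J := hnJ _ (hJm b₁ (hUP hb₁) (hzc b₁ (hUE hb₁)))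
  have hfc : f = (w⁻¹ * a₁ * w) * (w⁻¹ * b₁ * w) * (w⁻¹ * a₁ * w)⁻¹ * (w⁻¹ * b₁ * w)⁻¹ := by
    rw [hf, ← hz₁]
    group
  have h0 : Ψ f = 1 := by
    rw [hfc]
    exact hΨcomm _ _ (hJH _ ha₂) (hJH _ hb₂)
  exact ha1 (hΨf.symm.trans h0)

/-- Translating the hypotheses `E = O₂(C(z))` extraspecial, `C(E) ≤ E`. -/
theorem setting_of_pCore [Finite G] (z : G) (hz : orderOf z = 2) (E : Subgroup G)
    (hE : E = (Cfsg.pCore 2 ↥(centralizer ({z} : Set G))).map (centralizer ({z} : Set G)).subtype)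
    (hext : Cfsg.IsExtraspecial 2 ↥E) (hcent : centralizer (E : Set G) ≤ E) :
    ES E z ∧ (∀ c, (∀ e ∈ E, e * c = c * e) → c ∈ E) ∧
      (∀ h, h * z = z * h → ∀ e ∈ E, h * e * h⁻¹ ∈ E) := by
  have hEH : ∀ e ∈ E, e * z = z * e := by
    intro e he
    rw [hE] at he
    obtain ⟨p, -, rfl⟩ := he
    exact mem_centralizer_singleton_iff.mp p.2
  have hC : ∀ c, (∀ e ∈ E, e * c = c * e) → c ∈ E := fun c hc =>
    hcent (mem_centralizer_iff.mpr hc)
  have hzE : z ∈ E := hC z hEH
  have hz1 : z ≠ 1 := by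
    rintro rfl
    simp at hz
  refine ⟨?_, hC, ?_⟩
  · refine ES.of_extraspecial hext E.subtype Subtype.val_injective (t₀ := ⟨z, hzE⟩) ?_ rfl ?_ ?_
    · rw [Subgroup.range_subtype]
    · intro t
      exact Subtype.ext (hEH t t.2)
    · intro h0
      exact hz1 (congrArg Subtype.val h0)
  · intro h hh e he
    rw [hE] at he ⊢
    obtain ⟨p, hp, rfl⟩ := he
    have hn : (Cfsg.pCore 2 ↥(centralizer ({z} : Set G))).Normal :=
      Subgroup.sSup_normal _ (fun N hN => hN.1)
    refine ⟨⟨h, mem_centralizer_singleton_iff.mpr hh⟩ * p * ⟨h, mem_centralizer_singleton_iff.mpr hh⟩⁻¹,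
      hn.conj_mem p hp _, rfl⟩

end Cfsg.Agent.Lib.Components
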