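import Mathlib
import Cfsg.Agent.Lib.Components.Transv

/-!
# Sylow 2-subgroups meeting in central subgroups
-/

set_option autoImplicit false

namespace Cfsg.Agent.Lib.Components

open Subgroup

variable {G : Type*} [Group G] [Finite G]

/-- If `D` is central in a Sylow subgroup `U`, every 2-element normalizing `D` centralizes it. -/
theorem two_elt_centralizes {D : Subgroup G} (U : Sylow 2 G)
    (hDU : ∀ d ∈ D, ∀ u ∈ (U : Subgroup G), u * d = d * u) {g : G} (hg : ∃ k : ℕ, g ^ 2 ^ k = 1)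
    (hgN : g ∈ normalizer (D : Set G)) : ∀ d ∈ D, g * d = d * g := by
  have hUN : (U : Subgroup G) ≤ normalizer (D : Set G) := by
    intro u hu
    rw [mem_normalizer_iff]
    intro d
    constructor
    · intro hd
      have h1 := hDU d hd u hu
      have : u * d * u⁻¹ = d := by rw [h1]; group
      rwa [this]
    · intro hd
      have h1 := hDU _ hd u hu
      have h3 : d = u * d * u⁻¹ := by
        calc d = u⁻¹ * (u * d * u⁻¹ * u) := by group
          _ = u⁻¹ * (u * (u * d * u⁻¹)) := by rw [h1]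
          _ = u * d * u⁻¹ := by group
      rw [h3]
      exact hd
  have hZp : IsPGroup 2 (zpowers g) := by
    obtain ⟨k, hk⟩ := hg
    intro x
    obtain ⟨x, n, rfl⟩ := x
    refine ⟨k, ?_⟩
    apply Subtype.ext
    show (g ^ n) ^ 2 ^ k = 1
    rw [← zpow_natCast, zpow_comm, zpow_natCast, hk, one_zpow]
  obtain ⟨h, hhN, hh⟩ := sylow_conj_in U _ hUN (zpowers g) hZp ((zpowers_le).mpr hgN)
  have h1 := hh g (mem_zpowers g)
  intro d hd
  have hd' : h⁻¹ * d * h ∈ D := by
    have h2 := (mem_normalizer_iff.mp (inv_mem hhN) d).mp hd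
    simpa using h2
  have h2 := hDU _ hd' _ h1
  calc g * d = h * ((h⁻¹ * g * h) * (h⁻¹ * d * h)) * h⁻¹ := by group
    _ = h * ((h⁻¹ * d * h) * (h⁻¹ * g * h)) * h⁻¹ := by rw [h2]
    _ = d * g := by group

/-- Intersections of distinct Sylow subgroups which lie in the centre of some Sylow subgroup lie in
the centre of both. -/
theorem inter_central
    (hCI : ∀ S T : Sylow 2 G, S ≠ T → ∃ U : Sylow 2 G,
      ∀ d ∈ (S : Subgroup G) ⊓ (T : Subgroup G), d ∈ (U : Subgroup G) ∧
        ∀ u ∈ (U : Subgroup G), u * d = d * u) :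
    ∀ (k : ℕ) (S T : Sylow 2 G), S ≠ T →
      Nat.card (S : Subgroup G) - Nat.card ↥((S : Subgroup G) ⊓ (T : Subgroup G)) ≤ k →
      ∀ d ∈ (S : Subgroup G) ⊓ (T : Subgroup G), ∀ s ∈ (S : Subgroup G), s * d = d * s := by
  have hcase : ∀ S T : Sylow 2 G, S ≠ T → (S : Subgroup G) ⊓ (T : Subgroup G) ≠ S := by
    intro S T hST h2
    have h3 : (S : Subgroup G) ≤ T := by
      rw [← h2]; exact inf_le_right
    exact hST (Sylow.ext (S.is_maximal' T.isPGroup' h3).symm)
  intro k
  induction k with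
  | zero =>
    intro S T hST hk
    exfalso
    have h1 : (S : Subgroup G) ⊓ (T : Subgroup G) ≤ S := inf_le_left
    exact hcase S T hST (Subgroup.eq_of_le_of_card_ge h1 (by omega))
  | succ k ih =>
    intro S T hST hk d hd s hs
    obtain ⟨U, hU⟩ := hCI S T hST
    have hDlt : (S : Subgroup G) ⊓ (T : Subgroup G) < S := lt_of_le_of_ne inf_le_left (hcase S T hST)
    obtain ⟨g, hgS, hgD, hgN⟩ := exists_normalizing' S.isPGroup' hDlt
    have hg2 : ∃ k : ℕ, g ^ 2 ^ k = 1 := by
      obtain ⟨k, hk⟩ := S.isPGroup' ⟨g, hgS⟩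
      exact ⟨k, congrArg Subtype.val hk⟩
    have hgC := two_elt_centralizes U (fun d hd u hu => (hU d hd).2 u hu) hg2 hgN
    obtain ⟨C, hC⟩ : ∃ C : Subgroup G, C = centralizer ((((S : Subgroup G) ⊓ (T : Subgroup G) : Subgroup G)) : Set G) :=
      ⟨_, rfl⟩
    have hCmem : ∀ c, c ∈ C ↔ ∀ d ∈ (S : Subgroup G) ⊓ (T : Subgroup G), d * c = c * d := by
      intro c
      rw [hC, mem_centralizer_iff]
      rfl
    have hUC : (U : Subgroup G) ≤ C := fun u hu => (hCmem u).mpr (fun d hd => ((hU d hd).2 u hu).symm)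
    obtain ⟨h, hhC, hh⟩ := sylow_conj_in U C hUC ((S : Subgroup G) ⊓ C) (S.isPGroup'.to_le inf_le_left)
      inf_le_right
    obtain ⟨U₁, hU₁⟩ : ∃ U₁ : Sylow 2 G, U₁ = h • U := ⟨_, rfl⟩
    have hU₁m : ∀ c, c ∈ (U₁ : Subgroup G) ↔ h⁻¹ * c * h ∈ (U : Subgroup G) := by
      intro c
      rw [hU₁]
      exact mem_smul_sylow' U h c
    have hdC : ∀ e ∈ (S : Subgroup G) ⊓ (T : Subgroup G), e ∈ C := by
      intro e he
      refine (hCmem e).mpr (fun d hd => ?_)
      exact ((hU d hd).2 e (hU e he).1).symm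
    by_cases hSU : S = U₁
    · have h1 : s ∈ (U₁ : Subgroup G) := by rw [← hSU]; exact hs
      have h2 := (hU₁m s).mp h1
      have h3 : h⁻¹ * s * h ∈ C := hUC h2
      have h4 : s ∈ C := by
        have := C.mul_mem (C.mul_mem hhC h3) (C.inv_mem hhC)
        have e : h * (h⁻¹ * s * h) * h⁻¹ = s := by group
        rwa [e] at this
      exact ((hCmem s).mp h4 d hd).symm
    · have hle : (S : Subgroup G) ⊓ (T : Subgroup G) ≤ (S : Subgroup G) ⊓ (U₁ : Subgroup G) := by
        intro e he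
        exact ⟨he.1, (hU₁m e).mpr (hh e ⟨he.1, hdC e he⟩)⟩
      have hgU : g ∈ (S : Subgroup G) ⊓ (U₁ : Subgroup G) :=
        ⟨hgS, (hU₁m g).mpr (hh g ⟨hgS, (hCmem g).mpr (fun d hd => (hgC d hd).symm)⟩)⟩
      have hcard : Nat.card ↥((S : Subgroup G) ⊓ (T : Subgroup G)) <
          Nat.card ↥((S : Subgroup G) ⊓ (U₁ : Subgroup G)) := by
        by_contra hcon
        push Not at hcon
        have := Subgroup.eq_of_le_of_card_ge hle hcon
        rw [this] at hgD
        exact hgD hgU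
      exact ih S U₁ hSU (by omega) d (hle hd) s hs

/-- The unique involution of a cyclic group. -/
theorem unique_involution_cyclic {C : Type*} [Group C] [IsCyclic C] [Finite C] {a b : C}
    (ha : orderOf a = 2) (hb : orderOf b = 2) : a = b := by
  classical
  haveI : Fintype C := Fintype.ofFinite _
  by_contra hne
  have h1 := IsCyclic.card_pow_eq_one_le (α := C) (n := 2) (by norm_num)
  have hs : ({1, a, b} : Finset C) ⊆ Finset.univ.filter (fun x : C => x ^ 2 = 1) := by
    intro x hx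
    simp only [Finset.mem_insert, Finset.mem_singleton] at hx
    simp only [Finset.mem_filter, Finset.mem_univ, true_and]
    rcases hx with rfl | rfl | rfl
    · simp
    · rw [← ha]; exact pow_orderOf_eq_one x
    · rw [← hb]; exact pow_orderOf_eq_one x
  have hc : ({1, a, b} : Finset C).card = 3 := by
    rw [Finset.card_eq_three]
    refine ⟨1, a, b, ?_, ?_, hne, rfl⟩
    · rintro rfl
      simp at ha
    · rintro rfl
      simp at hb
  have h2 := Finset.card_le_card hs
  omega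

/-- Form of the `Z*`-theorem used as a hypothesis. -/
def ZStarFor (G : Type*) [Group G] : Prop :=
  ∀ (P : Sylow 2 G) (u : G), orderOf u = 2 → u ∈ P → (∀ g : G, g * u * g⁻¹ ∈ P → g * u * g⁻¹ = u) →
    ∃ N : Subgroup G, N.Normal ∧ Odd (Nat.card N) ∧ ∀ g : G, (u * g * u⁻¹ * g⁻¹) ∈ N

/-- Burnside: an involution `c` central in the Sylow subgroup `S` and a conjugate `c' = g c g⁻¹` central
in `S` are conjugate by an element of `N(S)`. -/
theorem burnside_central (S : Sylow 2 G) {c g : G} (hc : ∀ s ∈ (S : Subgroup G), s * c = c * s)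
    (hc' : ∀ s ∈ (S : Subgroup G), s * (g * c * g⁻¹) = (g * c * g⁻¹) * s) :
    ∃ n ∈ normalizer ((S : Subgroup G) : Set G), n * c * n⁻¹ = g * c * g⁻¹ := by
  obtain ⟨c', hc'd⟩ : ∃ c', c' = g * c * g⁻¹ := ⟨_, rfl⟩
  rw [← hc'd] at hc' ⊢
  -- both `S` and `g S g⁻¹` are Sylow in `C(c')`
  have hC1 : (S : Subgroup G) ≤ centralizer ({c'} : Set G) := fun s hs =>
    mem_centralizer_singleton_iff.mpr (hc' s hs)
  obtain ⟨h, hhC, hh⟩ := sylow_conj_in S _ hC1 (((S : Subgroup G)).map (MulAut.conj g).toMonoidHom)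
    (S.isPGroup'.map _) (by
      rintro _ ⟨s, hs, rfl⟩
      apply mem_centralizer_singleton_iff.mpr
      have h1 := hc s hs
      simp only [MulEquiv.coe_toMonoidHom, MulAut.conj_apply]
      rw [hc'd]
      calc g * s * g⁻¹ * (g * c * g⁻¹) = g * (s * c) * g⁻¹ := by group
        _ = g * (c * s) * g⁻¹ := by rw [h1]
        _ = g * c * g⁻¹ * (g * s * g⁻¹) := by group)
  have hhc : h * c' = c' * h := mem_centralizer_singleton_iff.mp hhC
  -- `h⁻¹ g` normalizes S
  have hcard : ((S : Subgroup G).map (MulAut.conj (h⁻¹ * g)).toMonoidHom) ≤ S := by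
    rintro _ ⟨s, hs, rfl⟩
    have := hh (g * s * g⁻¹) ⟨s, hs, rfl⟩
    simp only [MulEquiv.coe_toMonoidHom, MulAut.conj_apply]
    convert this using 1
    group
  have hmem : h⁻¹ * g ∈ normalizer ((S : Subgroup G) : Set G) := by
    have hfin : (S : Subgroup G).map (MulAut.conj (h⁻¹ * g)).toMonoidHom = S := by
      apply Subgroup.eq_of_le_of_card_ge hcard
      rw [Subgroup.card_map_of_injective (MulAut.conj (h⁻¹ * g)).injective]
    rw [mem_normalizer_iff]
    intro s
    constructor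
    · intro hs
      apply hcard
      exact ⟨s, hs, rfl⟩
    · intro hs
      have hs' : h⁻¹ * g * s * (h⁻¹ * g)⁻¹ ∈ (S : Subgroup G).map (MulAut.conj (h⁻¹ * g)).toMonoidHom := by
        rw [hfin]; exact hs
      obtain ⟨t, ht, hte⟩ := hs'
      simp only [MulEquiv.coe_toMonoidHom, MulAut.conj_apply] at hte
      have := mul_left_cancel (mul_right_cancel hte)
      rwa [← this]
  refine ⟨h⁻¹ * g, hmem, ?_⟩
  rw [hc'd]
  have h3 : h⁻¹ * c' * h = c' := by
    calc h⁻¹ * c' * h = h⁻¹ * (c' * h) := by group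
      _ = h⁻¹ * (h * c') := by rw [hhc]
      _ = c' := by group
  calc h⁻¹ * g * c * (h⁻¹ * g)⁻¹ = h⁻¹ * (g * c * g⁻¹) * h := by group
    _ = h⁻¹ * c' * h := by rw [hc'd]
    _ = c' := h3
    _ = g * c * g⁻¹ := hc'd

end Cfsg.Agent.Lib.Components
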