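import Cfsg.Agent.Lib.Components.Local2

/-!
# Components library: transferring `p`-constraint.
-/

set_option autoImplicit false
set_option linter.unusedSectionVars false
set_option linter.style.haveILetI false

namespace Cfsg.Agent.Lib.Components

open Subgroup
open Cfsg.Agent.Lib.Coprime
open Cfsg

variable {p : ℕ} [hp : Fact p.Prime]

section

variable {X Y : Type*} [Group X] [Group Y] [Finite X] [Finite Y]

theorem isPConstrained_congr (e : X ≃* Y) (h : IsPConstrained p X) : IsPConstrained p Y := by
  rw [isPConstrained_iff_layer_quotient] at h ⊢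
  have hm : (pPrimeCore p X).map e.toMonoidHom = pPrimeCore p Y := map_pPrimeCore_equiv e
  exact layer_eq_bot_of_mulEquiv (QuotientGroup.congr _ _ e hm) h

/-- If `T` is a normal `p`-subgroup and a subgroup `D` containing `C(T)` is `p`-constrained, so is the whole group. -/
theorem isPConstrained_of_centralizer_le {T D : Subgroup X} (hTn : T.Normal) (hT : IsPGroup p T)
    (hD : centralizer (T : Set X) ≤ D) (hDc : IsPConstrained p D) : IsPConstrained p X := by
  rw [isPConstrained_iff_pLayer, pLayer, sSup_eq_bot]
  intro K hK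
  exfalso
  set O := pPrimeCore p X with hO
  set π := QuotientGroup.mk' O with hπ
  have hKpre : K ≤ preLayer p X := by
    intro x hx
    show π x ∈ layer (X ⧸ O)
    exact component_le_layer hK.2.1 ⟨x, hx, rfl⟩
  have hKD : K ≤ D := fun x hx => hD (mem_centralizer_iff.mpr fun t ht =>
    (preLayer_commute_of_normal_pGroup hTn hT (hKpre hx) ht).symm)
  set OD := pPrimeCore p D with hOD
  set πD := QuotientGroup.mk' OD with hπD
  set K' := K.subgroupOf D with hK'
  set L := K'.map πD with hL
  have hK'sn : K'.IsSubnormal := hK.1.subgroupOf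
  have hLsn : L.IsSubnormal := hK'sn.map (QuotientGroup.mk'_surjective _)
  -- homomorphisms from K
  let f : K →* K.map π := π.subgroupMap K
  have hf : Function.Surjective f := π.subgroupMap_surjective K
  let g : K →* L := (πD.subgroupMap K').comp (subgroupOfEquivOfLe hKD).symm.toMonoidHom
  have hg : Function.Surjective g :=
    (πD.subgroupMap_surjective K').comp (subgroupOfEquivOfLe hKD).symm.surjective
  -- nontriviality
  have hnt : Nontrivial L := by
    rw [Subgroup.nontrivial_iff_ne_bot]
    intro h0
    rw [hL, Subgroup.map_eq_bot_iff, hπD, QuotientGroup.ker_mk'] at h0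
    have h1 : Nat.Coprime (Nat.card K') p := by
      refine Nat.Coprime.coprime_dvd_left (card_dvd_of_le h0) (coprime_card_pPrimeCore p)
    rw [hK', Nat.card_congr (subgroupOfEquivOfLe hKD).toEquiv] at h1
    have h2 := pComponent_dvd hK
    exact (Nat.Prime.coprime_iff_not_dvd hp.out).mp h1.symm h2
  -- kernels
  have hker : ∀ x ∈ f.ker, g x = 1 := by
    intro x hx
    rw [MonoidHom.mem_ker] at hx
    have hxO : (x : X) ∈ O := by
      have h1 : π x = 1 := congrArg Subtype.val hx
      have h2 : (x : X) ∈ π.ker := h1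
      rwa [hπ, QuotientGroup.ker_mk'] at h2
    -- the subgroup K ⊓ O of D
    set H := (K ⊓ O).subgroupOf D with hH
    have hHK : H ≤ K' := by
      intro y hy
      rw [hH, mem_subgroupOf] at hy
      rw [hK', mem_subgroupOf]
      exact (mem_inf.mp hy).1
    have hHn : (H.subgroupOf K').Normal := by
      refine ⟨fun y hy c => ?_⟩
      rw [mem_subgroupOf, hH, mem_subgroupOf] at hy ⊢
      obtain ⟨h3, h4⟩ := mem_inf.mp hy
      have hc : ((c : K') : D).1 ∈ K := mem_subgroupOf.mp c.2
      exact mem_inf.mpr ⟨K.mul_mem (K.mul_mem hc h3) (K.inv_mem hc),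
        (inferInstance : O.Normal).conj_mem _ h4 _⟩
    have hHsn : H.IsSubnormal := IsSubnormal.step _ K' hHK hK'sn hHn
    have hHc : (Nat.card H).Coprime p := by
      rw [hH, Nat.card_congr (subgroupOfEquivOfLe (inf_le_left.trans hKD)).toEquiv]
      exact Nat.Coprime.coprime_dvd_left (card_dvd_of_le inf_le_right) (coprime_card_pPrimeCore p)
    have hHO := subnormal_le_pPrimeCore hHsn hHc
    have hmem : (⟨x, hKD x.2⟩ : D) ∈ OD := hHO (by
      rw [hH, mem_subgroupOf]; exact mem_inf.mpr ⟨x.2, hxO⟩)
    apply Subtype.ext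
    show πD ⟨x, hKD x.2⟩ = 1
    have : (⟨x, hKD x.2⟩ : D) ∈ πD.ker := by
      rwa [hπD, QuotientGroup.ker_mk']
    exact this
  -- the quotient
  have hq : IsQuasisimple (K ⧸ f.ker) :=
    qs_of_mulEquiv hK.2.1.2 (QuotientGroup.quotientKerEquivOfSurjective f hf).symm
  let φ : (K ⧸ f.ker) →* L := QuotientGroup.lift f.ker g hker
  have hφ : Function.Surjective φ := by
    intro y
    obtain ⟨k, hk⟩ := hg y
    exact ⟨(k : K ⧸ f.ker), by
      rw [← hk]; rfl⟩
  have hLq : IsQuasisimple L := qs_of_surjective hq φ hφ
  have hLc : IsComponent L := ⟨hLsn, hLq⟩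
  have h0 := isPConstrained_iff_layer_quotient.mp hDc
  have h1 := component_le_layer hLc
  rw [h0, le_bot_iff] at h1
  exact component_ne_bot hLc h1

/-- `N_M(T)` of a `p`-constrained group is `p`-constrained, ambient form. -/
theorem isPConstrained_normalizer {M : Type*} [Group M] [Finite M] (hc : IsPConstrained p M)
    {P : Subgroup M} (hP : IsPGroup p P) : IsPConstrained p (normalizer (P : Set M)) := by
  rw [isPConstrained_iff_pLayer] at hc ⊢
  exact pLayer_normalizer_eq_bot hc hP

end

section

variable {G : Type*} [Group G] [Finite G]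

/-- `C ⊓ N(T)`, for `T ≤ C` with `C` `p`-constrained, is `p`-constrained. -/
theorem isPConstrained_subgroupOf_normalizer {T C : Subgroup G} (hTC : T ≤ C) (hT : IsPGroup p T)
    (hc : IsPConstrained p C) : IsPConstrained p (C.subgroupOf (normalizer (T : Set G))) :=
  isPConstrained_congr (normalizerSubgroupOfEquiv hTC)
    (isPConstrained_normalizer hc (isPGroup_subgroupOf hT))

/-- A nontrivial `p`-subgroup has a central element of order `p`. -/
theorem exists_central_of_order {T : Subgroup G} (hT : IsPGroup p T) (hT1 : T ≠ ⊥) :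
    ∃ t ∈ T, orderOf t = p ∧ T ≤ centralizer ({t} : Set G) := by
  haveI hTnt : Nontrivial T := by
    rw [Subgroup.nontrivial_iff_ne_bot]
    exact hT1
  haveI := hT.center_nontrivial
  have hZp : IsPGroup p (center T) := by
    intro g
    obtain ⟨k, hk⟩ := hT g.1
    exact ⟨k, Subtype.ext hk⟩
  have h2 : p ∣ Nat.card (center T) := by
    obtain ⟨k, hk⟩ := IsPGroup.iff_card.mp hZp
    have h3 : 1 < Nat.card (center T) := Finite.one_lt_card
    rcases k with _ | k
    · rw [hk] at h3
      simp at h3
    · rw [hk]
      exact dvd_pow_self _ (Nat.succ_ne_zero k)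
  obtain ⟨z, hz⟩ := exists_prime_orderOf_dvd_card' p h2
  refine ⟨((z : T) : G), (z : T).2, ?_, ?_⟩
  · rw [Subgroup.orderOf_coe, Subgroup.orderOf_coe, hz]
  · intro x hx
    rw [mem_centralizer_singleton_iff]
    have h3 := mem_center_iff.mp z.2 ⟨x, hx⟩
    exact congrArg Subtype.val h3

/-- **S3247**, centralizer case. -/
theorem isPConstrained_normalizer_of_centralizers
    (h : ∀ t : G, orderOf t = p → IsPConstrained p (centralizer ({t} : Set G))) {T : Subgroup G}
    (hT : IsPGroup p T) (hT1 : T ≠ ⊥) : IsPConstrained p (normalizer (T : Set G)) := by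
  obtain ⟨t, htT, hto, hTC⟩ := exists_central_of_order hT hT1
  have h4 := isPConstrained_subgroupOf_normalizer hTC hT (h t hto)
  refine isPConstrained_of_centralizer_le (T := T.subgroupOf (normalizer (T : Set G)))
    ((normal_subgroupOf_iff_le_normalizer le_normalizer).mpr le_rfl) (isPGroup_subgroupOf hT) ?_ h4
  intro x hx
  rw [mem_subgroupOf, mem_centralizer_singleton_iff]
  have h5 := mem_centralizer_iff.mp hx ⟨t, le_normalizer htT⟩ (by
    rw [SetLike.mem_coe, mem_subgroupOf]; exact htT)
  exact (congrArg Subtype.val h5).symm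

/-- `N(T)` inside a `p`-constrained overgroup is `p`-constrained. -/
theorem isPConstrained_normalizer_of_le {T M : Subgroup G} (hT : IsPGroup p T)
    (hM : normalizer (T : Set G) ≤ M) (hc : IsPConstrained p M) :
    IsPConstrained p (normalizer (T : Set G)) := by
  have h1 := isPConstrained_subgroupOf_normalizer (le_normalizer.trans hM) hT hc
  have h2 : M.subgroupOf (normalizer (T : Set G)) = ⊤ := subgroupOf_eq_top.mpr hM
  rw [h2] at h1
  exact isPConstrained_congr Subgroup.topEquiv h1

end

end Cfsg.Agent.Lib.Components
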