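import Mathlib
import Cfsg.Prelude.Def_Transfer

/-!
# Involutions with small centralizers

Elementary facts on pairs of involutions: odd products give conjugacy through an involution,
even products give a commuting involution, and the "three involutions" lemma: when the
involutions of `C(x)` are exactly `x, y, z` with `y ∼ x` and `z ≁ x`, the conjugates of `z`
commute pairwise.
-/

set_option autoImplicit false

namespace Cfsg.Agent.Lib.Components

open Subgroup

variable {G : Type*} [Group G]

/-- If two involutions have a product of odd order, an involution conjugates one to the other. -/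
theorem exists_midpoint {u v : G} (hu : u ^ 2 = 1) (hv : v ^ 2 = 1)
    (h : Odd (orderOf (u * v))) : ∃ s : G, s ^ 2 = 1 ∧ s * u * s⁻¹ = v := by
  obtain ⟨k, hk⟩ := h
  have hui : u⁻¹ = u := inv_eq_of_mul_eq_one_left (by rw [← sq, hu])
  have hvi : v⁻¹ = v := inv_eq_of_mul_eq_one_left (by rw [← sq, hv])
  obtain ⟨r, hr⟩ : ∃ r, r = u * v := ⟨_, rfl⟩
  rw [← hr] at hk
  have hr1 : r ^ (2 * k + 1) = 1 := by rw [← hk]; exact pow_orderOf_eq_one r
  have hconj : u * r * u⁻¹ = r⁻¹ := by
    rw [hr, mul_inv_rev, hui, hvi]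
    calc u * (u * v) * u = (u * u) * v * u := by group
      _ = v * u := by rw [← sq, hu, one_mul]
  have hconjp : ∀ n : ℕ, u * r ^ n * u⁻¹ = (r ^ n)⁻¹ := by
    intro n; rw [← conj_pow, hconj, inv_pow]
  have h1 : u * r ^ (k + 1) * u = (r ^ (k + 1))⁻¹ := by
    have := hconjp (k + 1); rwa [hui] at this
  have hs2 : (u * r ^ (k + 1)) ^ 2 = 1 := by
    rw [sq]
    calc u * r ^ (k + 1) * (u * r ^ (k + 1)) = (u * r ^ (k + 1) * u) * r ^ (k + 1) := by group
      _ = 1 := by rw [h1]; group
  refine ⟨u * r ^ (k + 1), hs2, ?_⟩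
  have hsi : (u * r ^ (k + 1))⁻¹ = u * r ^ (k + 1) :=
    inv_eq_of_mul_eq_one_left (by rw [← sq, hs2])
  rw [hsi]
  calc u * r ^ (k + 1) * u * (u * r ^ (k + 1))
      = u * r ^ (k + 1) * (u * u) * r ^ (k + 1) := by group
    _ = u * (r ^ (k + 1) * r ^ (k + 1)) := by rw [← sq, hu]; group
    _ = u * (r ^ (2 * k + 1) * r) := by rw [← pow_add, ← pow_succ]; congr 2; ring
    _ = v := by rw [hr1, one_mul, hr, ← mul_assoc, ← sq, hu, one_mul]

/-- If two involutions have a product of even order, some involution commutes with both. -/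
theorem exists_commuting_involution {u v : G} (hu : u ^ 2 = 1) (hv : v ^ 2 = 1)
    (h : Even (orderOf (u * v))) (h0 : orderOf (u * v) ≠ 0) :
    ∃ w : G, orderOf w = 2 ∧ Commute w u ∧ Commute w v := by
  obtain ⟨l, hl⟩ := h
  have hui : u⁻¹ = u := inv_eq_of_mul_eq_one_left (by rw [← sq, hu])
  have hvi : v⁻¹ = v := inv_eq_of_mul_eq_one_left (by rw [← sq, hv])
  obtain ⟨r, hr⟩ : ∃ r, r = u * v := ⟨_, rfl⟩
  rw [← hr] at hl h0
  have hl0 : 0 < l := by
    rcases Nat.eq_zero_or_pos l with rfl | h
    · exact absurd (by simpa using hl) h0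
    · exact h
  have hw : orderOf (r ^ l) = 2 := by
    have := orderOf_pow_orderOf_div (x := r) (n := 2) h0 (by rw [hl]; exact ⟨l, by ring⟩)
    have h2 : orderOf r / 2 = l := by rw [hl]; omega
    rwa [h2] at this
  have hw2 : (r ^ l) ^ 2 = 1 := by rw [← hw]; exact pow_orderOf_eq_one _
  have hinv : (r ^ l)⁻¹ = r ^ l := inv_eq_of_mul_eq_one_left (by rw [← sq, hw2])
  have hconj : u * r * u⁻¹ = r⁻¹ := by
    rw [hr, mul_inv_rev, hui, hvi]
    calc u * (u * v) * u = (u * u) * v * u := by group
      _ = v * u := by rw [← sq, hu, one_mul]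
  have hconjv : v * r * v⁻¹ = r⁻¹ := by
    rw [hr, mul_inv_rev, hui, hvi]
    calc v * (u * v) * v = v * u * (v * v) := by group
      _ = v * u := by rw [← sq, hv, mul_one]
  refine ⟨r ^ l, hw, ?_, ?_⟩
  · have : u * r ^ l * u⁻¹ = r ^ l := by rw [← conj_pow, hconj, inv_pow, hinv]
    rw [hui] at this
    show r ^ l * u = u * r ^ l
    calc r ^ l * u = (u * r ^ l * u) * u := by rw [this]
      _ = u * r ^ l * (u * u) := by group
      _ = u * r ^ l := by rw [← sq, hu, mul_one]
  · have : v * r ^ l * v⁻¹ = r ^ l := by rw [← conj_pow, hconjv, inv_pow, hinv]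
    rw [hvi] at this
    show r ^ l * v = v * r ^ l
    calc r ^ l * v = (v * r ^ l * v) * v := by rw [this]
      _ = v * r ^ l * (v * v) := by group
      _ = v * r ^ l := by rw [← sq, hv, mul_one]

/-- The three-involutions lemma. Suppose the involutions commuting with `x` (and those commuting
with `y`) are among `x, y, z`, where `y` is conjugate to `x` and `z` is not. Then every conjugate
of `z` commutes with `z`. -/
theorem commute_conj_of_three [Finite G] {x y z : G} (hx : orderOf x = 2) (hz : orderOf z = 2)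
    (hJx : ∀ w : G, orderOf w = 2 → Commute w x → w = x ∨ w = y ∨ w = z)
    (hJy : ∀ w : G, orderOf w = 2 → Commute w y → w = x ∨ w = y ∨ w = z)
    (hyx : IsConj x y) (hzx : ¬ IsConj x z) (g : G) : Commute (g * z * g⁻¹) z := by
  have hx2 : x ^ 2 = 1 := by rw [← hx]; exact pow_orderOf_eq_one _
  have hz2 : z ^ 2 = 1 := by rw [← hz]; exact pow_orderOf_eq_one _
  obtain ⟨v, hv⟩ : ∃ v, v = g * z * g⁻¹ := ⟨_, rfl⟩
  rw [← hv]
  have hvconj : IsConj z v := by
    rw [hv]; exact isConj_iff.mpr ⟨g, rfl⟩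
  have hv2 : v ^ 2 = 1 := by
    rw [hv, conj_pow, hz2]; group
  have hvord : orderOf v = 2 := by
    haveI : Fact (Nat.Prime 2) := ⟨Nat.prime_two⟩
    refine orderOf_eq_prime hv2 ?_
    intro h1
    have hz1 : z = 1 := by
      rw [h1] at hv
      have : z = g⁻¹ * 1 * g := by rw [hv]; group
      rw [this]; group
    rw [hz1, orderOf_one] at hz
    omega
  -- `v` is not `x`, `y`; so a `v` in `{x,y,z}` equals `z`
  have hvx : ¬ IsConj x v := fun h => hzx (h.trans hvconj.symm)
  have hvne_x : v ≠ x := by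
    rintro rfl; exact hvx (IsConj.refl _)
  have hvne_y : v ≠ y := by
    rintro rfl; exact hvx hyx
  have hodd : ¬ Odd (orderOf (x * v)) := by
    intro h
    obtain ⟨s, -, hs⟩ := exists_midpoint hx2 hv2 h
    exact hvx (isConj_iff.mpr ⟨s, hs⟩)
  have heven : Even (orderOf (x * v)) := Nat.not_odd_iff_even.mp hodd
  obtain ⟨w, hw, hwx, hwv⟩ := exists_commuting_involution hx2 hv2 heven
    (orderOf_pos _).ne'
  have key : ∀ c : G, orderOf c = 2 → Commute v c → c = x ∨ c = y ∨ c = z → Commute v z := by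
    intro c _ hvc hc
    rcases hc with rfl | rfl | rfl
    · rcases hJx v hvord hvc with h | h | h
      · exact absurd h hvne_x
      · exact absurd h hvne_y
      · rw [h]
    · rcases hJy v hvord hvc with h | h | h
      · exact absurd h hvne_x
      · exact absurd h hvne_y
      · rw [h]
    · exact hvc
  exact key w hw hwv.symm (hJx w hw hwx)

/-- If all conjugates of an element of square one commute with it, its normal closure is
elementary abelian. -/
theorem isElementaryAbelian_normalClosure {z : G} (hz : z ^ 2 = 1)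
    (h : ∀ g : G, Commute (g * z * g⁻¹) z) :
    Cfsg.IsElementaryAbelian 2 (normalClosure ({z} : Set G)) := by
  have hcomm : ∀ g g' : G, Commute (g * z * g⁻¹) (g' * z * g'⁻¹) := by
    intro g g'
    have h1 := h (g'⁻¹ * g)
    have h2 : (g' * (g'⁻¹ * g * z * (g'⁻¹ * g)⁻¹) * g'⁻¹) = g * z * g⁻¹ := by group
    have h3 : Commute (g' * (g'⁻¹ * g * z * (g'⁻¹ * g)⁻¹) * g'⁻¹) (g' * z * g'⁻¹) := by
      show _ * _ = _ * _
      have h4 := h1.eq
      calc g' * (g'⁻¹ * g * z * (g'⁻¹ * g)⁻¹) * g'⁻¹ * (g' * z * g'⁻¹)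
          = g' * ((g'⁻¹ * g * z * (g'⁻¹ * g)⁻¹) * z) * g'⁻¹ := by group
        _ = g' * (z * (g'⁻¹ * g * z * (g'⁻¹ * g)⁻¹)) * g'⁻¹ := by rw [h4]
        _ = _ := by group
    rwa [h2] at h3
  have hgen : normalClosure ({z} : Set G) = closure (Group.conjugatesOfSet ({z} : Set G)) := rfl
  have hconjmem : ∀ c ∈ Group.conjugatesOfSet ({z} : Set G), ∃ g : G, c = g * z * g⁻¹ := by
    intro c hc
    rw [Group.mem_conjugatesOfSet_iff] at hc
    obtain ⟨a, ha, hac⟩ := hc
    rw [Set.mem_singleton_iff] at ha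
    subst ha
    obtain ⟨g, hg⟩ := isConj_iff.mp hac
    exact ⟨g, hg.symm⟩
  -- every element commutes with every generator
  have h1 : ∀ a ∈ normalClosure ({z} : Set G), ∀ g : G, Commute a (g * z * g⁻¹) := by
    intro a ha g
    rw [hgen] at ha
    induction ha using closure_induction with
    | mem c hc =>
      obtain ⟨g', rfl⟩ := hconjmem c hc
      exact hcomm g' g
    | one => exact Commute.one_left _
    | mul a b _ _ ha hb => exact ha.mul_left hb
    | inv a _ ha => exact ha.inv_left
  have h2 : ∀ a ∈ normalClosure ({z} : Set G), ∀ b ∈ normalClosure ({z} : Set G), Commute a b := by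
    intro a ha b hb
    rw [hgen] at hb
    induction hb using closure_induction with
    | mem c hc =>
      obtain ⟨g', rfl⟩ := hconjmem c hc
      exact h1 a ha g'
    | one => exact Commute.one_right _
    | mul b c _ _ hb hc => exact hb.mul_right hc
    | inv b _ hb => exact hb.inv_right
  refine ⟨⟨⟨?_⟩⟩, ?_⟩
  · rintro ⟨a, ha⟩ ⟨b, hb⟩
    exact Subtype.ext (h2 a ha b hb).eq
  · intro a ha
    rw [hgen] at ha
    induction ha using closure_induction with
    | mem c hc =>
      obtain ⟨g', rfl⟩ := hconjmem c hc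
      rw [conj_pow, hz]; group
    | one => simp
    | mul a b ha' hb' ha hb =>
      have := h2 a (by rw [hgen]; exact ha') b (by rw [hgen]; exact hb')
      rw [this.mul_pow, ha, hb, one_mul]
    | inv a _ ha => rw [inv_pow, ha, inv_one]

end Cfsg.Agent.Lib.Components
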