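import Cfsg.Agent.Lib.KnownSimple.J1Base

/-!
# Data for the element orders of the Janko group `J₁`: walks on two vector orbits and the commuting involutions
-/

set_option autoImplicit false
set_option maxRecDepth 100000

namespace Cfsg.Agent.Lib.Components.J1Spec

open Cfsg.Agent.Lib.KnownSimple.J1Base

/-- A walk on an orbit of vectors: `k % 2` is the generator, `k ≥ 2` marks a new vector. -/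
def moves7 : List ℕ := [3,2,2,2,2,2,2,3,2,2,2,2,2,2,3,2,2,2,2,2,2,3,2,2,2,2,2,2,3,2,2,2,2,2,2,3,2,2,2,2,2,2,3,2,2,2,2,2,2,3,2,2,2,2,2,2,3,2,2,2,2,2,2,3,2,2,2,2,2,2,3,2,2,2,2,2,2,3,2,2,2,2,2,2,3,2,2,2,2,2,2,3,2,2,2,2,2,2,3,2,2,2,2,2,2,3,2,2,2,2,2,2,3,2,2,2,2,2,2,3,2,2,2,2,2,2,0,3,2,2,2,2,2,2,3,2,2,2,2,2,2,3,2,2,2,2,2,2,3,2,2,2,2,2,2,3,2,2,2,2,2,2,3,2,2,2,2,2,2,3,2,2,2,2,2,2,3,2,2,2,2,2,2,3,2,2,2,2,2,2,3,2,2,2,2,2,2,3,2,2,2,2,2,2,3,2,2,2,2,2,2,3,2,2,2,2,2,2,3,2,2,2,2,2,2,3,2,2,2,2,2,2,3,2,2,2,2,2,2,3,2,2,2,2,2,2,3,2,2,2,2,2,2,0,0,3,2,2,2,2,2,2,3,2,2,2,2,2,2,3,2,2,2,2,2,2,3,2,2,2,2,2,2,3,2,2,2,2,2,2,3,2,2,2,2,2,2,3,2,2,2,2,2,2,3,2,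2,2,2,2,2,3,2,2,2,2,2,2,3,2,2,2,2,2,2,3,2,2,2,2,2,2,3,2,2,2,2,2,2,3,2,2,2,2,2,2,3,2,2,2,2,2,2,3,2,2,2,2,2,2,3,2,2,2,2,2,2,3,2,2,2,2,2,2,3,2,2,2,2,2,2,0,3,2,2,2,2,2,2,0,3,2,2,2,2,2,2,3,2,2,2,2,2,2,3,2,2,2,2,2,2,3,2,2,2,2,2,2,3,2,2,2,2,2,2,3,2,2,2,2,2,2,3,2,2,2,2,2,2,3,2,2,2,2,2,2,3,2,2,2,2,2,2,3,2,2,2,2,2,2,3,2,2,2,2,2,2,3,2,2,2,2,2,2,3,2,2,2,2,2,2,3,2,2,2,2,2,2,3,2,2,2,2,2,2,3,2,2,2,2,2,2,3,2,2,2,2,2,2,3,2,2,2,2,2,2,1,3,2,2,2,2,2,2,3,2,2,2,2,2,2,3,2,2,2,2,2,2,0,3,2,2,2,2,2,2,3,2,2,2,2,2,2,3,2,2,2,2,2,2,0,3,2,2,2,2,2,2,3,2,2,2,2,2,2,3,2,2,2,2,2,2,3,2,2,2,2,2,2,3,2,2,2,2,2,2,3,2,2,2,2,2,2,3,2,2,2,2,2,2,3,2,2,2,2,2,2,3,2,2,2,2,2,2,3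,2,2,2,2,2,2,3,2,2,2,2,2,2,3,2,2,2,2,2,2,3,2,2,2,2,2,2,3,2,2,2,2,2,2,3,2,2,2,2,2,2,3,2,2,2,2,2,2,0,3,2,2,2,2,2,2,3,2,2,2,2,2,2,3,2,2,2,2,2,2,3,2,2,2,2,2,2,3,2,2,2,2,2,2,3,2,2,2,2,2,2,3,2,2,2,2,2,2,3,2,2,2,2,2,2,3,2,2,2,2,2,2,3,2,2,2,2,2,2,3,2,2,2,2,2,2,3,2,2,2,2,2,2,3,2,2,2,2,2,2,3,2,2,2,2,2,2,3,2,2,2,2,2,2,3,2,2,2,2,2,2,0,3,2,2,2,2,2,2,3,2,2,2,2,2,2,3,2,2,2,2,2,2,3,2,2,2,2,2,2,3,2,2,2,2,2,2,3,2,2,2,2,2,2,3,2,2,2,2,2,2,3,2,2,2,2,2,2,3,2,2,2,2,2,2,3,2,2,2,2,2,2,3,2,2,2,2,2,2,3,2,2,2,2,2,2,3,2,2,2,2,2,2,3,2,2,2,2,2,2,3,2,2,2,2,2,2,0,3,2,2,2,2,2,2,3,2,2,2,2,2,2,3,2,2,2,2,2,2,3,2,2,2,2,2,2,3,2,2,2,2,2,2,3,2,2,2,2,2,2,3,2,2,2,2,2,2,3,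2,2,2,2,2,2,3,2,2,2,2,2,2,3,2,2,2,2,2,2,3,2,2,2,2,2,2,3,2,2,2,2,2,2,0,3,2,2,2,2,2,2,3,2,2,2,2,2,2,3,2,2,2,2,2,2,3,2,2,2,2,2,2,3,2,2,2,2,2,2,3,2,2,2,2,2,2,3,2,2,2,2,2,2,3,2,2,2,2,2,2,3,2,2,2,2,2,2,3,2,2,2,2,2,2,0,3,2,2,2,2,2,2,3,2,2,2,2,2,2,3,2,2,2,2,2,2,3,2,2,2,2,2,2,3,2,2,2,2,2,2,3,2,2,2,2,2,2,3,2,2,2,2,2,2,3,2,2,2,2,2,2,3,2,2,2,2,2,2,3,2,2,2,2,2,2,0,3,2,2,2,2,2,2,3,2,2,2,2,2,2,3,2,2,2,2,2,2,3,2,2,2,2,2,2,3,2,2,2,2,2,2,3,2,2,2,2,2,2,3,2,2,2,2,2,2,3,2,2,2,2,2,2,0,3,2,2,2,2,2,2,3,2,2,2,2,2,2,3,2,2,2,2,2,2,3,2,2,2,2,2,2,0,3,2,2,2,2,2,2,3,2,2,2,2,2,2,3,2,2,2,2,2,2,3,2,2,2,2,2,2,3,2,2,2,2,2,2,3,2,2,2,2,2,2,3,2,2,2,2,2,2,3,2,2,2,2,2,2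,0,3,2,2,2,2,2,2,3,2,2,2,2,2,2,3,2,2,2,2,2,2,3,2,2,2,2,2,2,3,2,2,2,2,2,2,3,2,2,2,2,2,2,3,2,2,2,2,2,2,3,2,2,2,2,2,2,3,2,2,2,2,2,2,3,2,2,2,2,2,2,3,2,2,2,2,2,2,3,2,2,2,2,2,2,0,3,2,2,2,2,2,2,3,2,2,2,2,2,2,3,2,2,2,2,2,2,3,2,2,2,2,2,2,3,2,2,2,2,2,2,3,2,2,2,2,2,2,3,2,2,2,2,2,2,3,2,2,2,2,2,2,0,3,2,2,2,2,2,2,3,2,2,2,2,2,2,3,2,2,2,2,2,2,3,2,2,2,2,2,2,3,2,2,2,2,2,2,3,2,2,2,2,2,2,3,2,2,2,2,2,2,3,2,2,2,2,2,2,3,2,2,2,2,2,2,3,2,2,2,2,2,2,3,2,2,2,2,2,2,3,2,2,2,2,2,2,3,2,2,2,2,2,2,0,3,2,2,2,2,2,2,3,2,2,2,2,2,2,0,3,2,2,2,2,2,2,3,2,2,2,2,2,2,3,2,2,2,2,2,2,3,2,2,2,2,2,2,3,2,2,2,2,2,2,3,2,2,2,2,2,2,3,2,2,2,2,2,2,0,3,2,2,2,2,2,2,3,2,2,2,2,2,2,3,2,2,2,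2,2,2,3,2,2,2,2,2,2,3,2,2,2,2,2,2,3,2,2,2,2,2,2,3,2,2,2,2,2,2,3,2,2,2,2,2,2,3,2,2,2,2,2,2,3,2,2,2,2,2,2,3,2,2,2,2,2,2,1,3,2,2,2,2,2,2,3,2,2,2,2,2,2,3,2,2,2,2,2,2,3,2,2,2,2,2,2,3,2,2,2,2,2,2,0,3,2,2,2,2,2,2,0,3,2,2,2,2,2,2,3,2,2,2,2,2,2,3,2,2,2,2,2,2,3,2,2,2,2,2,2,3,2,2,2,2,2,2,3,2,2,2,2,2,2,0,3,2,2,2,2,2,2,3,2,2,2,2,2,2,3,2,2,2,2,2,2,3,2,2,2,2,2,2,3,2,2,2,2,2,2,3,2,2,2,2,2,2,3,2,2,2,2,2,2,3,2,2,2,2,2,2,3,2,2,2,2,2,2,1,3,2,2,2,2,2,2,0,3,2,2,2,2,2,2,0,0,3,2,2,2,2,2,2,3,2,2,2,2,2,2,3,2,2,2,2,2,2,0,3,2,2,2,2,2,2,3,2,2,2,2,2,2,3,2,2,2,2,2,2,3,2,2,2,2,2,2,3,2,2,2,2,2,2,3,2,2,2,2,2,2,3,2,2,2,2,2,2,0,3,2,2,2,2,2,2,0,3,2,2,2,2,2,2,3,2,2,2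,2,2,2,3,2,2,2,2,2,2,3,2,2,2,2,2,2,3,2,2,2,2,2,2,1,3,2,2,2,2,2,2,3,2,2,2,2,2,2,3,2,2,2,2,2,2,3,2,2,2,2,2,2,3,2,2,2,2,2,2,3,2,2,2,2,2,2,0,3,2,2,2,2,2,2,3,2,2,2,2,2,2,3,2,2,2,2,2,2,0,3,2,2,2,2,2,2,3,2,2,2,2,2,2,3,2,2,2,2,2,2,0,3,2,2,2,2,2,2,3,2,2,2,2,2,2,3,2,2,2,2,2,2,0,3,2,2,3,2,2,2,2,2,2,3,2,2,2,2,2,2,3,2,2,2,2,2,2,3,2,2,2,2,2,2,3,2,2,2,2,2,2,3,2,2,2,2,2,2,3,2,2,2,2,2,2,3,2,2,2,2,2,2,3,2,2,2,2,2,2,1,3,2,2,2,2,2,2,3,2,2,2,2,2,2,3,2,2,2,2,2,2,3,2,2,2,2,2,2,3,2,2,2,2,2,2,3,2,2,2,2,2,2,3,2,2,2,2,2,2,3,2,2,2,2,2,2,0,3,2,2,2,2,2,2,0,3,2,2,2,2,2,2,3,2,2,2,2,2,2,3,2,2,2,2,2,2,3,2,2,2,2,2,2,3,2,2,2,2,2,2,3,2,2,2,2,2,2,3,2,2,2,2,2,2,3,2,2,2,2,2,2,3,2,2,2,2,2,2,3,2,2,2,2,2,2,3,2,2,2,2,2,2,3,2,2,2,2,2,2,0,3,2,2,2,2,2,2,3,2,2,2,2,2,2,0,3,2,2,2,2,2,2,0,3,2,2,2,2,2,2,3,2,2,2,2,2,2,3,2,2,2,2,2,2,3,2,2,2,2,2,2,3,2,2,2,2,2,2,3,2,2,2,2,2,2,3,2,2,2,2,2,2,3,2]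

def P7 : Mat := [[10,10,10,10,10,10,0],[0,10,10,10,10,10,0],[0,0,10,10,10,10,0],[0,0,0,10,10,10,0],[0,0,0,0,10,10,0],[0,0,0,0,0,10,0],[0,0,0,0,0,0,0]]

def w7 : List ℕ := [1,1,1,1,1,1,1]

def f7 : ℕ := 6

/-- A walk on an orbit of vectors: `k % 2` is the generator, `k ≥ 2` marks a new vector. -/
def moves19 : List ℕ := [2,2,2,2,2,2,3,2,2,2,2,2,2,3,2,2,2,2,2,2,3,2,2,2,2,2,2,3,2,2,2,2,2,2,3,2,2,2,2,2,2,3,2,2,2,2,2,2,3,2,2,2,2,2,2,3,2,2,2,2,2,2,3,2,2,2,2,2,2,3,2,2,2,2,2,2,3,2,2,2,2,2,2,3,2,2,2,2,2,2,3,2,2,2,2,2,2,3,2,2,2,2,2,2,3,2,2,2,2,2,2,3,2,2,2,2,2,2,3,2,2,2,2,2,2,3,2,2,2,2,2,2,0,3,2,2,2,2,2,2,3,2,2,2,2,2,2,3,2,2,2,2,2,2,3,2,2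,2,2,2,2,0,3,2,2,2,2,2,2,3,2,2,2,2,2,2,3,2,2,2,2,2,2,3,2,2,2,2,2,2,3,2,2,2,2,2,2,3,2,2,2,2,2,2,3,2,2,2,2,2,2,3,2,2,2,2,2,2,3,2,2,2,2,2,2,3,2,2,2,2,2,2,3,2,2,2,2,2,2,3,2,2,2,2,2,2,3,2,2,2,2,2,2,3,2,2,2,2,2,2,3,2,2,2,2,2,2,3,2,2,2,2,2,2,3,2,2,2,2,2,2,3,2,2,2,2,2,2,0,3,2,2,2,2,2,2,3,2,2,2,2,2,2,3,2,2,2,2,2,2,3,2,2,2,2,2,2,3,2,2,2,2,2,2,3,2,2,2,2,2,2,3,2,2,2,2,2,2,3,2,2,2,2,2,2,3,2,2,2,2,2,2,3,2,2,2,2,2,2,3,2,2,2,2,2,2,3,2,2,2,2,2,2,3,2,2,2,2,2,2,3,2,2,2,2,2,2,3,2,2,2,2,2,2,3,2,2,2,2,2,2,3,2,2,2,2,2,2,0,3,2,2,2,2,2,2,3,2,2,2,2,2,2,3,2,2,2,2,2,2,0,3,2,2,2,2,2,2,3,2,2,2,2,2,2,3,2,2,2,2,2,2,3,2,2,2,2,2,2,3,2,2,2,2,2,2,3,2,2,2,2,2,2,3,2,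2,2,2,2,2,3,2,2,2,2,2,2,3,2,2,2,2,2,2,3,2,2,2,2,2,2,0,3,2,2,2,2,2,2,3,2,2,2,2,2,2,3,2,2,2,2,2,2,3,2,2,2,2,2,2,3,2,2,2,2,2,2,3,2,2,2,2,2,2,0,3,2,2,2,2,2,2,3,2,2,2,2,2,2,3,2,2,2,2,2,2,3,2,2,2,2,2,2,3,2,2,2,2,2,2,3,2,2,2,2,2,2,3,2,2,2,2,2,2,3,2,2,2,2,2,2,3,2,2,2,2,2,2,3,2,2,2,2,2,2,3,2,2,2,2,2,2,3,2,2,2,2,2,2,3,2,2,2,2,2,2,3,2,2,2,2,2,2,1,3,2,2,2,2,2,2,3,2,2,2,2,2,2,3,2,2,2,2,2,2,3,2,2,2,2,2,2,1,3,2,2,2,2,2,2,3,2,2,2,2,2,2,3,2,2,2,2,2,2,3,2,2,2,2,2,2,3,2,2,2,2,2,2,3,2,2,2,2,2,2,3,2,2,2,2,2,2,3,2,2,2,2,2,2,3,2,2,2,2,2,2,0,3,2,2,2,2,2,2,0,3,2,2,2,2,2,2,3,2,2,2,2,2,2,3,2,2,2,2,2,2,1,3,2,2,2,2,2,2,3,2,2,2,2,2,2,3,2,2,2,2,2,2,3,2,2,2,2,2,2,3,2,2,2,2,2,2,0,3,2,2,2,2,2,2,1,1,3,2,2,2,2,2,2,3,2,2,2,2,2,2,3,2,2,2,2,2,2,3,2,2,2,2,2,2,3,2,2,2,2,2,2,3,2,2,2,2,2,2,3]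

def P19 : Mat := [[9,8,1,10,0,0,1],[0,9,5,6,8,0,6],[6,2,6,9,3,0,4],[6,10,5,10,6,0,3],[5,8,0,4,10,0,3],[0,0,0,0,0,0,0],[10,5,7,8,8,0,5]]

def w19 : List ℕ := [6,6,8,1,1,1,0]

def f19 : ℕ := 5

def F3 : List Mat := [[[5,3,3,4,3,4,4],[3,4,8,8,8,0,9],[3,8,4,0,8,9,8],[4,8,0,5,9,1,1],[3,8,8,9,4,8,0],[4,0,9,1,8,5,1],[4,9,8,1,0,1,5]],[[4,8,2,5,4,5,7],[8,4,2,5,1,5,3],[2,2,10,8,10,0,9],[5,5,8,1,4,9,8],[4,1,10,4,3,3,9],[5,5,0,9,3,10,6],[7,3,9,8,9,6,0]],[[10,5,0,3,6,5,9],[5,4,2,4,7,8,5],[0,2,10,10,9,2,8],[3,4,10,3,9,1,4],[6,7,9,9,0,3,8],[5,8,2,1,3,4,5],[9,5,8,4,8,5,1]],[[6,6,6,4,7,10,5],[6,10,6,5,4,6,7],[6,6,8,8,8,6,8],[4,5,8,0,8,7,5],[7,4,8,8,5,5,0],[10,6,6,7,5,6,4],[5,7,8,5,0,4,8]],[[6,6,9,9,2,1,2],[6,4,10,2,2,5,5],[9,10,10,10,9,8,5],[9,2,10,3,3,5,2],[2,2,9,3,10,3,5],[1,5,8,5,3,9,4],[2,5,5,2,5,4,1]]]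

def F5 : List Mat := [[[5,3,3,4,3,4,4],[3,4,8,8,8,0,9],[3,8,4,0,8,9,8],[4,8,0,5,9,1,1],[3,8,8,9,4,8,0],[4,0,9,1,8,5,1],[4,9,8,1,0,1,5]],[[3,8,5,9,2,9,10],[8,10,8,5,2,2,2],[5,8,9,7,10,6,8],[9,5,7,1,2,5,6],[2,2,10,2,6,6,2],[9,2,6,5,6,4,1],[10,2,8,6,2,1,10]],[[8,4,5,5,7,7,9],[4,0,10,0,4,3,5],[5,10,9,6,6,7,2],[5,0,6,5,8,0,4],[7,4,6,8,5,4,9],[7,3,7,0,4,1,3],[9,5,2,4,9,3,4]]]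

end Cfsg.Agent.Lib.Components.J1Spec
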