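import Mathlib
import Cfsg.Agent.Lib.OddLocal.UniqueP2

/-!
Quotients of 2-groups that are generalized quaternion: recognition helpers.
-/

set_option autoImplicit false
set_option linter.unusedSectionVars false

namespace Cfsg.Agent.Lib.Components

open Subgroup

variable {Q : Type*} [Group Q]

theorem uniqueP_of_existsUnique (h : ∃! x : Q, orderOf x = 2) : Cfsg.Agent.Lib.OddLocal.UniqueP 2 Q := by
  obtain ⟨z, hz, huniq⟩ := h
  have key : ∀ H : Subgroup Q, Nat.card H = 2 → H = zpowers z := by
    intro H hH
    haveI : Finite H := Nat.finite_of_card_ne_zero (by omega)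
    haveI : Nontrivial H := (Finite.one_lt_card_iff_nontrivial).1 (by omega)
    have hord : ∀ h : H, h ≠ 1 → (h : Q) = z := by
      intro h hne
      apply huniq
      rw [Subgroup.orderOf_coe]
      have hd : orderOf h ∣ 2 := hH ▸ orderOf_dvd_natCard h
      have h1 : orderOf h ≠ 1 := fun h1 => hne (orderOf_eq_one_iff.1 h1)
      rcases (Nat.dvd_prime Nat.prime_two).1 hd with h2 | h2
      · exact absurd h2 h1
      · exact h2
    obtain ⟨h, hne⟩ := exists_ne (1 : H)
    apply le_antisymm
    · intro y hy
      by_cases hy1 : y = 1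
      · rw [hy1]; exact one_mem _
      · have h3 : y = z := hord ⟨y, hy⟩ (fun h => hy1 (congrArg Subtype.val h))
        rw [h3]; exact mem_zpowers z
    · rw [Subgroup.zpowers_le, ← hord h hne]; exact h.2
  intro H K hH hK
  rw [key H hH, key K hK]

theorem quaternion_of_existsUnique [Finite Q] (hQ : IsPGroup 2 Q) (hnc : ¬ IsMulCommutative Q)
    (h : ∃! x : Q, orderOf x = 2) : ∃ n : ℕ, Nonempty (Q ≃* QuaternionGroup (2 ^ n)) := by
  rcases Cfsg.Agent.Lib.OddLocal.cyclic_or_quaternion hQ (uniqueP_of_existsUnique h) with hc | h2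
  · exfalso
    apply hnc
    exact ⟨⟨fun a b => by
      haveI := hc
      exact mul_comm' a b⟩⟩
  · exact h2

end Cfsg.Agent.Lib.Components
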