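import Mathlib
import Cfsg.Agent.Lib.Classical.HermCount
import Cfsg.Agent.Lib.Classical.UnitSub
import Cfsg.Agent.Lib.Classical.SUOrder
import Cfsg.Agent.S0754

/-!
# Sylow `2`-subgroups of `SU₃(2ⁿ)`

The coordinates on a Sylow `2`-subgroup of `SU₃(2ⁿ)`, and the fact that an automorphism whose
square is inner fixes the centre element-wise.
-/

set_option autoImplicit false
set_option linter.unusedSimpArgs false
set_option linter.unusedVariables false
set_option linter.unusedSectionVars false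
set_option linter.style.haveILetI false

namespace Cfsg.Agent.Lib.Components.SU3

open Cfsg Cfsg.Agent.Lib.Classical Matrix

/-- A `±1`-valued character sum vanishes. -/
theorem sum_char_eq_zero {G : Type*} [AddCommGroup G] [Fintype G] (c : G → ℤ)
    (hc : ∀ x y, c (x + y) = c x * c y) (x₀ : G) (hx₀ : c x₀ = -1) : ∑ x, c x = 0 := by
  have h1 : ∑ x, c x = ∑ x, c (x₀ + x) := (Equiv.sum_comp (Equiv.addLeft x₀) c).symm
  have h2 : ∑ x, c (x₀ + x) = - ∑ x, c x := by
    simp only [hc, hx₀, neg_one_mul, Finset.sum_neg_distrib]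
  linarith

section field

variable {F : Type*} [Field F] [Fintype F] {q : ℕ}

/-- The heart of the matter: the norm form is elliptic. -/
theorem form_core (hF : Fintype.card F = q ^ 2) (h2 : (2 : F) = 0)
    (ψ : F → ℤ) (hψ : ∀ x y, ψ (x + y) = ψ x * ψ y) (hψ1 : ∀ x, ψ x = 1 ∨ ψ x = -1)
    (z₀ : F) (hz₀ : z₀ ^ q = z₀) (hψz : ψ z₀ = -1)
    (W : AddSubgroup F) (hW : ∀ w ∈ W, ψ (w ^ (q + 1)) = 1) (hWc : q ≤ Nat.card W) : False := by
  classical
  have hq2 : 2 ≤ q := two_le_q hF
  have hq0 : q ≠ 0 := by omega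
  have hψ0 : ψ 0 = 1 := by
    have h := hψ 0 0
    rw [add_zero] at h
    rcases hψ1 0 with h' | h'
    · exact h'
    · rw [h'] at h
      norm_num at h
  obtain ⟨Fq, hFq⟩ : ∃ Fq : AddSubgroup F, ∀ z, z ∈ Fq ↔ z ^ q = z :=
    ⟨{ carrier := {z | z ^ q = z}
       add_mem' := fun {a b} ha hb => by
        have ha' : a ^ q = a := ha
        have hb' : b ^ q = b := hb
        show (a + b) ^ q = a + b
        rw [add_pow_q hF, ha', hb']
       zero_mem' := by
        show (0 : F) ^ q = 0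
        exact zero_pow hq0
       neg_mem' := fun {a} ha => by
        have e : -a = a := by linear_combination (-a) * h2
        rw [e]
        exact ha }, fun z => Iff.rfl⟩
  haveI : Fintype ↥Fq := Fintype.ofFinite _
  haveI : Fintype ↥W := Fintype.ofFinite _
  have hsumFq : ∑ z : Fq, ψ z.1 = 0 :=
    sum_char_eq_zero (fun z : Fq => ψ z.1) (fun x y => hψ _ _) ⟨z₀, (hFq _).2 hz₀⟩ hψz
  have hS : ∑ α : F, ψ (α ^ (q + 1)) = -(q : ℤ) := by
    have hNmem : ∀ α : F, α ^ (q + 1) ∈ Fq := fun α => (hFq _).2 (norm_pow_fixed hF α)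
    have h1 : ∑ α : F, ψ (α ^ (q + 1)) = ∑ z : Fq, ∑ α ∈ Finset.univ.filter
        (fun α : F => (⟨α ^ (q + 1), hNmem α⟩ : Fq) = z), ψ (α ^ (q + 1)) :=
      (Finset.sum_fiberwise _ _ _).symm
    rw [h1]
    have h3 : ∀ z : Fq, ∑ α ∈ Finset.univ.filter
        (fun α : F => (⟨α ^ (q + 1), hNmem α⟩ : Fq) = z), ψ (α ^ (q + 1)) =
        ((q : ℤ) + 1) * ψ z.1 - (if z = 0 then (q : ℤ) else 0) := by
      intro z
      have h4 : ∑ α ∈ Finset.univ.filter
          (fun α : F => (⟨α ^ (q + 1), hNmem α⟩ : Fq) = z), ψ (α ^ (q + 1)) =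
          ∑ α ∈ Finset.univ.filter
          (fun α : F => (⟨α ^ (q + 1), hNmem α⟩ : Fq) = z), ψ z.1 := by
        apply Finset.sum_congr rfl
        intro α hα
        rw [← (Finset.mem_filter.mp hα).2]
      rw [h4, Finset.sum_const, nsmul_eq_mul]
      have h5 : (Finset.univ.filter (fun α : F => (⟨α ^ (q + 1), hNmem α⟩ : Fq) = z)).card =
          Nat.card {x : F // x ^ (q + 1) = z.1} := by
        rw [Nat.card_eq_fintype_card, Fintype.card_subtype]
        congr 1
        ext α
        simp [Subtype.ext_iff]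
      rw [h5]
      by_cases hz : z = 0
      · subst hz
        rw [if_pos rfl]
        have h6 : Nat.card {x : F // x ^ (q + 1) = ((0 : Fq) : F)} = 1 := card_norm_zero hF
        rw [h6]
        show (((1 : ℕ) : ℤ)) * ψ 0 = _ * ψ 0 - _
        rw [hψ0]
        push_cast
        ring
      · rw [if_neg hz, Cfsg.Agent.S0754.result hF z.1 (fun h => hz (Subtype.ext h)) ((hFq _).1 z.2)]
        push_cast
        ring
    rw [Finset.sum_congr rfl (fun z _ => h3 z), Finset.sum_sub_distrib, ← Finset.mul_sum, hsumFq]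
    simp
  -- the polar form
  have hNadd : ∀ α w : F, (α + w) ^ (q + 1) = α ^ (q + 1) + w ^ (q + 1) + (α * w ^ q + w * α ^ q) := by
    intro α w
    rw [pow_succ (α + w) q, add_pow_q hF, pow_succ α q, pow_succ w q]
    ring
  obtain ⟨e, he⟩ : ∃ e : F → F → ℤ, ∀ α w, e α w = ψ (α * w ^ q + w * α ^ q) := ⟨_, fun _ _ => rfl⟩
  have he_add_r : ∀ α w w', e α (w + w') = e α w * e α w' := by
    intro α w w'
    rw [he, he, he, ← hψ, add_pow_q hF]
    congr 1
    ring
  have he_add_l : ∀ α α' w, e (α + α') w = e α w * e α' w := by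
    intro α α' w
    rw [he, he, he, ← hψ, add_pow_q hF]
    congr 1
    ring
  have he_val : ∀ α w, e α w = 1 ∨ e α w = -1 := fun α w => by
    rw [he]
    exact hψ1 _
  have he_zero_r : ∀ α, e α 0 = 1 := by
    intro α
    rw [he, zero_pow hq0]
    simp [hψ0]
  have he_zero_l : ∀ w, e 0 w = 1 := by
    intro w
    rw [he, zero_pow hq0]
    simp [hψ0]
  obtain ⟨Wp, hWp⟩ : ∃ Wp : Finset F, ∀ α, α ∈ Wp ↔ ∀ w : W, e α w.1 = 1 :=
    ⟨Finset.univ.filter (fun α => ∀ w : W, e α w.1 = 1), fun α => by simp⟩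
  have hinner : ∀ α, ∑ w : W, e α w.1 = if α ∈ Wp then (Fintype.card W : ℤ) else 0 := by
    intro α
    by_cases hα : α ∈ Wp
    · rw [if_pos hα]
      have h1 := (hWp α).1 hα
      simp [h1]
    · rw [if_neg hα]
      rw [hWp] at hα
      push Not at hα
      obtain ⟨w₀, hw₀⟩ := hα
      refine sum_char_eq_zero (fun w : W => e α w.1) (fun x y => he_add_r _ _ _) w₀ ?_
      rcases he_val α w₀.1 with h | h
      · exact absurd h hw₀
      · exact h
  have hWcard : Nat.card W = Fintype.card W := Nat.card_eq_fintype_card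
  have hWpos : 0 < Fintype.card W := by
    rw [← hWcard]
    omega
  -- first double count
  have hc1 : ((Wp.card : ℤ)) * (Fintype.card W : ℤ) = (q : ℤ) ^ 2 := by
    have h1 : ∑ α : F, ∑ w : W, e α w.1 = (Wp.card : ℤ) * (Fintype.card W : ℤ) := by
      simp only [hinner]
      rw [Finset.sum_ite_mem]
      simp
    have h3 : ∀ w : W, ∑ α : F, e α w.1 = if w = 0 then (q : ℤ) ^ 2 else 0 := by
      intro w
      by_cases hw : w = 0
      · subst hw
        rw [if_pos rfl]
        simp only [ZeroMemClass.coe_zero, he_zero_r]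
        simp [hF]
      · rw [if_neg hw]
        have hw0 : w.1 ≠ 0 := fun h => hw (Subtype.ext h)
        obtain ⟨t, ht⟩ := exists_trace_eq' hF z₀ hz₀
        refine sum_char_eq_zero (fun α : F => e α w.1) (fun x y => he_add_l _ _ _) (t / w.1 ^ q) ?_
        show e _ _ = _
        rw [he]
        have h5 : t / w.1 ^ q * w.1 ^ q + w.1 * (t / w.1 ^ q) ^ q = z₀ := by
          rw [div_pow, pow_q_pow_q hF, ← ht]
          field_simp
        rw [h5, hψz]
    have h4 : ∑ w : W, ∑ α : F, e α w.1 = (q : ℤ) ^ 2 := by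
      simp only [h3]
      simp
    rw [← h1, Finset.sum_comm, h4]
  have hWple : Wp.card ≤ q := by
    have h1 : Wp.card * Fintype.card W = q ^ 2 := by exact_mod_cast hc1
    by_contra hlt
    push Not at hlt
    have h3 : q ≤ Fintype.card W := by rwa [← hWcard]
    have : (q + 1) * q ≤ Wp.card * Fintype.card W := Nat.mul_le_mul hlt h3
    nlinarith
  -- second double count
  have hc2 : ∑ α ∈ Wp, ψ (α ^ (q + 1)) = -(q : ℤ) := by
    have h1 : ∀ w : W, ∑ α : F, ψ ((α + w.1) ^ (q + 1)) = -(q : ℤ) := by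
      intro w
      rw [← hS]
      exact Equiv.sum_comp (Equiv.addRight w.1) (fun α => ψ (α ^ (q + 1)))
    have h3 : ∑ w : W, ∑ α : F, ψ ((α + w.1) ^ (q + 1)) = (Fintype.card W : ℤ) * (-(q : ℤ)) := by
      simp only [h1]
      simp
    have h4 : ∀ (w : W) (α : F), ψ ((α + w.1) ^ (q + 1)) = ψ (α ^ (q + 1)) * e α w.1 := by
      intro w α
      rw [hNadd, hψ, hψ, hW w.1 w.2, he, mul_one]
    have h5 : ∑ w : W, ∑ α : F, ψ ((α + w.1) ^ (q + 1)) =
        (Fintype.card W : ℤ) * ∑ α ∈ Wp, ψ (α ^ (q + 1)) := by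
      simp only [h4]
      rw [Finset.sum_comm]
      simp only [← Finset.mul_sum, hinner, mul_ite, mul_zero]
      rw [Finset.sum_ite_mem]
      simp only [Finset.univ_inter]
      rw [Finset.mul_sum]
      apply Finset.sum_congr rfl
      intro x _
      ring
    rw [h5] at h3
    have h6 : (Fintype.card W : ℤ) ≠ 0 := by exact_mod_cast hWpos.ne'
    exact mul_left_cancel₀ h6 h3
  have h0Wp : (0 : F) ∈ Wp := (hWp 0).2 (fun w => he_zero_l _)
  have hbound : (2 : ℤ) - Wp.card ≤ ∑ α ∈ Wp, ψ (α ^ (q + 1)) := by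
    rw [← Finset.add_sum_erase Wp _ h0Wp, zero_pow (by omega), hψ0]
    have h1 : ∑ α ∈ Wp.erase 0, (-1 : ℤ) ≤ ∑ α ∈ Wp.erase 0, ψ (α ^ (q + 1)) := by
      apply Finset.sum_le_sum
      intro α _
      rcases hψ1 (α ^ (q + 1)) with h | h <;> rw [h] <;> norm_num
    rw [Finset.sum_const, Finset.card_erase_of_mem h0Wp] at h1
    have h3 : 1 ≤ Wp.card := Finset.card_pos.mpr ⟨0, h0Wp⟩
    have h4 : ((Wp.card - 1 : ℕ) : ℤ) = (Wp.card : ℤ) - 1 := by
      push_cast [h3]
      ring
    rw [smul_neg, nsmul_eq_mul, h4] at h1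
    linarith
  rw [hc2] at hbound
  have : (Wp.card : ℤ) ≤ q := by exact_mod_cast hWple
  linarith

/-- A `±1` sign on `ZMod 2`. -/
def sg (a : ZMod 2) : ℤ := if a = 0 then 1 else -1

theorem sg_add : ∀ a b : ZMod 2, sg (a + b) = sg a * sg b := by decide

theorem sg_val : ∀ a : ZMod 2, sg a = 1 ∨ sg a = -1 := by decide

/-- Additive semisimilarities of the norm form induce the identity on the base field. -/
theorem norm_semi_id (hF : Fintype.card F = q ^ 2) (h2 : (2 : F) = 0)
    (A B : F → F) (hA : ∀ x y, A (x + y) = A x + A y) (hAA : ∀ x, A (A x) = x)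
    (hB : ∀ x y, x ^ q = x → y ^ q = y → B (x + y) = B x + B y)
    (hN : ∀ x, A x ^ (q + 1) = B (x ^ (q + 1))) (z : F) (hz : z ^ q = z) : B z = z := by
  classical
  by_contra hne
  have hq2 : 2 ≤ q := two_le_q hF
  have hq0 : q ≠ 0 := by omega
  have hneg : ∀ a : F, -a = a := fun a => by linear_combination (-a) * h2
  letI : Module (ZMod 2) F := AddCommGroup.zmodModule (n := 2) (fun x => by
    rw [two_nsmul]
    linear_combination x * h2)
  have hB0 : B 0 = 0 := by
    have h := hB 0 0 (zero_pow hq0) (zero_pow hq0)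
    rw [add_zero] at h
    linear_combination -h
  obtain ⟨Z₀, hZ₀⟩ : ∃ Z₀ : AddSubgroup F, ∀ y, y ∈ Z₀ ↔ y ^ q = y ∧ B y = y :=
    ⟨{ carrier := {y | y ^ q = y ∧ B y = y}
       add_mem' := fun {a b} ha hb => by
        obtain ⟨ha1, ha2⟩ := ha
        obtain ⟨hb1, hb2⟩ := hb
        refine ⟨?_, ?_⟩
        · rw [add_pow_q hF, ha1, hb1]
        · rw [hB a b ha1 hb1, ha2, hb2]
       zero_mem' := ⟨zero_pow hq0, hB0⟩
       neg_mem' := fun {a} ha => by
        rw [hneg]
        exact ha }, fun y => Iff.rfl⟩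
  have hzZ : z ∉ AddSubgroup.toZModSubmodule 2 Z₀ := by
    intro h
    exact hne ((hZ₀ z).1 h).2
  obtain ⟨l, hl1, hl2⟩ := Submodule.exists_dual_map_eq_bot_of_notMem hzZ inferInstance
  have hl0 : ∀ y ∈ Z₀, l y = 0 := by
    intro y hy
    have : l y ∈ (AddSubgroup.toZModSubmodule 2 Z₀).map l :=
      Submodule.mem_map_of_mem (f := l) (p := AddSubgroup.toZModSubmodule 2 Z₀) hy
    rw [hl2] at this
    exact (Submodule.mem_bot (ZMod 2)).mp this
  obtain ⟨W, hW⟩ : ∃ W : AddSubgroup F, ∀ y, y ∈ W ↔ A y = y :=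
    ⟨{ carrier := {y | A y = y}
       add_mem' := fun {a b} ha hb => by
        have ha' : A a = a := ha
        have hb' : A b = b := hb
        show A (a + b) = a + b
        rw [hA, ha', hb']
       zero_mem' := by
        show A 0 = 0
        have h := hA 0 0
        rw [add_zero] at h
        linear_combination -h
       neg_mem' := fun {a} ha => by
        rw [hneg]
        exact ha }, fun y => Iff.rfl⟩
  have hWc : q ≤ Nat.card W := by
    haveI : Fintype ↥W := Fintype.ofFinite _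
    have hDmem : ∀ x, A x + x ∈ W := by
      intro x
      rw [hW, hA, hAA, add_comm]
    have h1 := Finset.card_le_mul_card_image (f := fun x => (⟨A x + x, hDmem x⟩ : W))
      (Finset.univ : Finset F) (Fintype.card W) (by
      intro a ha
      obtain ⟨x₀, -, rfl⟩ := Finset.mem_image.mp ha
      apply Finset.card_le_card_of_injOn (s := _) (t := (Finset.univ : Finset W))
        (fun x => if h : A x + x + (A x₀ + x₀) = 0 then ⟨x + x₀, by
          rw [hW, hA]
          linear_combination h + (- x - x₀) * h2⟩ else 0)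
      · intro x _
        exact Finset.mem_coe.mpr (Finset.mem_univ _)
      · intro x hx y hy hxy
        have hx' : A x + x = A x₀ + x₀ :=
          congrArg Subtype.val (Finset.mem_filter.mp (Finset.mem_coe.mp hx)).2
        have hy' : A y + y = A x₀ + x₀ :=
          congrArg Subtype.val (Finset.mem_filter.mp (Finset.mem_coe.mp hy)).2
        have hx0 : A x + x + (A x₀ + x₀) = 0 := by
          rw [hx']
          linear_combination (A x₀ + x₀) * h2
        have hy0 : A y + y + (A x₀ + x₀) = 0 := by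
          rw [hy']
          linear_combination (A x₀ + x₀) * h2
        simp only [dif_pos hx0, dif_pos hy0] at hxy
        have := congrArg Subtype.val hxy
        simp only at this
        exact add_right_cancel this)
    have h3 : (Finset.univ.image (fun x => (⟨A x + x, hDmem x⟩ : W))).card ≤ Fintype.card W :=
      Finset.card_le_univ _
    have h4 : (Finset.univ : Finset F).card = q ^ 2 := hF
    rw [h4] at h1
    have h5 : q ^ 2 ≤ Fintype.card W * Fintype.card W :=
      h1.trans (Nat.mul_le_mul_left _ h3)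
    rw [Nat.card_eq_fintype_card]
    by_contra hlt
    push Not at hlt
    nlinarith
  refine form_core hF h2 (fun y => sg (l y)) ?_ (fun y => sg_val _) z hz ?_ W ?_ hWc
  · intro x y
    show sg (l (x + y)) = _
    rw [map_add, sg_add]
  · show sg (l z) = -1
    have h1 : l z = 1 := by
      generalize l z = a at hl1
      revert a
      decide
    rw [h1]
    decide
  · intro w hw
    have hw' := (hW w).1 hw
    have hN' := hN w
    rw [hw'] at hN'
    have h1 : w ^ (q + 1) ∈ Z₀ := (hZ₀ _).2 ⟨norm_pow_fixed hF w, hN'.symm⟩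
    show sg (l _) = 1
    rw [hl0 _ h1]
    decide

end field

section coords

variable {F : Type*} [Field F]

/-- Coordinates on a Sylow `2`-subgroup of `SU₃(q)`, `q` even. -/
structure SU3Coords (q : ℕ) (X : Type*) [Group X] (aa cc : X → F) : Prop where
  ext : ∀ x y : X, aa x = aa y → cc x = cc y → x = y
  rel : ∀ x : X, cc x + cc x ^ q = aa x ^ (q + 1)
  aa_mul : ∀ x y : X, aa (x * y) = aa x + aa y
  cc_mul : ∀ x y : X, cc (x * y) = cc x + cc y + aa x * aa y ^ q
  aa_one : aa 1 = 0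
  cc_one : cc 1 = 0
  ex : ∀ α γ : F, γ + γ ^ q = α ^ (q + 1) → ∃ x : X, aa x = α ∧ cc x = γ

theorem SU3Coords.congr {q : ℕ} {X Y : Type*} [Group X] [Group Y] {aa cc : X → F} (e : Y ≃* X)
    (h : SU3Coords q X aa cc) : SU3Coords q Y (fun y => aa (e y)) (fun y => cc (e y)) where
  ext := fun x y h1 h3 => e.injective (h.ext _ _ h1 h3)
  rel := fun x => h.rel _
  aa_mul := fun x y => by simp only [map_mul, h.aa_mul]
  cc_mul := fun x y => by simp only [map_mul, h.cc_mul]
  aa_one := by simp only [map_one, h.aa_one]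
  cc_one := by simp only [map_one, h.cc_one]
  ex := fun α γ hg => by
    obtain ⟨x, hx1, hx2⟩ := h.ex α γ hg
    obtain ⟨y, rfl⟩ := e.surjective x
    exact ⟨y, hx1, hx2⟩

variable {q : ℕ} {X : Type*} [Group X] {aa cc : X → F}

namespace SU3Coords

variable (h : SU3Coords q X aa cc) (h2 : (2 : F) = 0)
include h h2

theorem aa_sq (x : X) : aa (x * x) = 0 := by
  rw [h.aa_mul]
  linear_combination (aa x) * h2

theorem cc_sq (x : X) : cc (x * x) = aa x ^ (q + 1) := by
  rw [h.cc_mul, pow_succ' (aa x) q]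
  linear_combination (cc x) * h2

theorem sq_one_iff [Fintype F] (hF : Fintype.card F = q ^ 2) (x : X) : x * x = 1 ↔ aa x = 0 := by
  have hq : q + 1 ≠ 0 := by omega
  constructor
  · intro h1
    have h3 := h.cc_sq h2 x
    rw [h1, h.cc_one] at h3
    exact (pow_eq_zero_iff hq).mp h3.symm
  · intro h1
    apply h.ext
    · rw [h.aa_sq h2, h.aa_one]
    · rw [h.cc_sq h2, h.cc_one, h1, zero_pow hq]

theorem aa_inv (x : X) : aa x⁻¹ = aa x := by
  have h3 := h.aa_mul x x⁻¹
  rw [mul_inv_cancel, h.aa_one] at h3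
  linear_combination -h3 - (aa x) * h2

theorem aa_conj (s x : X) : aa (s * x * s⁻¹) = aa x := by
  rw [h.aa_mul, h.aa_mul, h.aa_inv h2]
  linear_combination (aa s) * h2

theorem central_of_aa (hq : q ≠ 0) {x : X} (hx : aa x = 0) (y : X) : x * y = y * x := by
  apply h.ext
  · rw [h.aa_mul, h.aa_mul, add_comm]
  · rw [h.cc_mul, h.cc_mul, hx, zero_pow hq]
    ring

theorem exists_aa [Fintype F] (hF : Fintype.card F = q ^ 2) (α : F) : ∃ x : X, aa x = α := by
  obtain ⟨γ, hγ⟩ := exists_trace_eq' hF (α ^ (q + 1)) (norm_pow_fixed hF α)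
  obtain ⟨x, hx, -⟩ := h.ex α γ hγ
  exact ⟨x, hx⟩

theorem aa_of_central [Fintype F] (hF : Fintype.card F = q ^ 2) {x : X} (hx : ∀ y, x * y = y * x) :
    aa x = 0 := by
  by_contra hne
  obtain ⟨t, ht⟩ := exists_trace_eq' hF (1 : F) (one_pow _)
  obtain ⟨y, hy⟩ := h.exists_aa h2 hF ((t / aa x) ^ q)
  have h3 := congrArg cc (hx y)
  rw [h.cc_mul, h.cc_mul, hy, pow_q_pow_q hF, div_pow] at h3
  have h4 : aa x * (t / aa x) = t := by
    field_simp
  have hne' : aa x ^ q ≠ 0 := pow_ne_zero _ hne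
  have h5 : t ^ q / aa x ^ q * aa x ^ q = t ^ q := by
    field_simp
  have h6 : t = t ^ q := by
    linear_combination h3 + h5 - h4
  have h7 : (1 : F) = 0 := by
    rw [← ht, ← h6]
    linear_combination t * h2
  exact one_ne_zero h7

/-- An automorphism whose square is inner fixes the "centre" element-wise. -/
theorem center_fixed [Fintype F] (hF : Fintype.card F = q ^ 2) (τ : X ≃* X) (s : X)
    (hs : ∀ x, τ (τ x) = s * x * s⁻¹) {z : X} (hz : aa z = 0) : τ z = z := by
  classical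
  have hq2 : 2 ≤ q := two_le_q hF
  have hq0 : q ≠ 0 := by omega
  choose ξ hξ using h.exists_aa h2 hF
  have hζ : ∀ z : F, ∃ x : X, z ^ q = z → aa x = 0 ∧ cc x = z := by
    intro z
    by_cases hz : z ^ q = z
    · obtain ⟨x, h1, h3⟩ := h.ex 0 z (by
        rw [zero_pow (by omega), hz]
        linear_combination z * h2)
      exact ⟨x, fun _ => ⟨h1, h3⟩⟩
    · exact ⟨1, fun h1 => absurd h1 hz⟩
  choose ζ hζ using hζ
  have hτ0 : ∀ x, aa x = 0 → aa (τ x) = 0 := by
    intro x hx
    rw [← h.sq_one_iff h2 hF, ← map_mul, (h.sq_one_iff h2 hF x).2 hx, map_one]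
  have hτa : ∀ x y, aa x = aa y → aa (τ x) = aa (τ y) := by
    intro x y hxy
    have h1 : aa (x * y⁻¹) = 0 := by
      rw [h.aa_mul, h.aa_inv h2, hxy]
      linear_combination (aa y) * h2
    have h3 := hτ0 _ h1
    rw [map_mul, h.aa_mul, map_inv, h.aa_inv h2] at h3
    linear_combination h3 - (aa (τ y)) * h2
  obtain ⟨A, hA⟩ : ∃ A : F → F, ∀ x, A x = aa (τ (ξ x)) := ⟨_, fun _ => rfl⟩
  have hAaa : ∀ x, A (aa x) = aa (τ x) := by
    intro x
    rw [hA]
    exact hτa _ _ (hξ _)
  have hAadd : ∀ x y, A (x + y) = A x + A y := by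
    intro x y
    have h1 : x + y = aa (ξ x * ξ y) := by rw [h.aa_mul, hξ, hξ]
    rw [h1, hAaa, map_mul, h.aa_mul, hA, hA]
  have hAA : ∀ x, A (A x) = x := by
    intro x
    rw [hA x, hAaa, hs, h.aa_conj h2, hξ]
  obtain ⟨B, hB⟩ : ∃ B : F → F, ∀ x, B x = cc (τ (ζ x)) := ⟨_, fun _ => rfl⟩
  have hBadd : ∀ x y, x ^ q = x → y ^ q = y → B (x + y) = B x + B y := by
    intro x y hx hy
    have h1 : ζ (x + y) = ζ x * ζ y := by
      apply h.ext
      · rw [h.aa_mul, (hζ _ hx).1, (hζ _ hy).1, (hζ (x + y) (by rw [add_pow_q hF, hx, hy])).1]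
        ring
      · rw [h.cc_mul, (hζ _ hx).1, (hζ _ hx).2, (hζ _ hy).2, (hζ (x + y) (by rw [add_pow_q hF, hx, hy])).2]
        ring
    rw [hB, h1, map_mul, h.cc_mul, hτ0 _ (hζ _ hx).1, hB, hB]
    ring
  have hN : ∀ x, A x ^ (q + 1) = B (x ^ (q + 1)) := by
    intro x
    have h1 : ζ (x ^ (q + 1)) = ξ x * ξ x := by
      have hfix := norm_pow_fixed hF x
      apply h.ext
      · rw [(hζ _ hfix).1, h.aa_sq h2]
      · rw [(hζ _ hfix).2, h.cc_sq h2, hξ]
    rw [hB, h1, map_mul, h.cc_sq h2, hA]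
  have hcz : cc z ^ q = cc z := by
    have h1 := h.rel z
    rw [hz, zero_pow (by omega)] at h1
    linear_combination h1 - (cc z) * h2
  have hfin := norm_semi_id hF h2 A B hAadd hAA hBadd hN (cc z) hcz
  have hzz : ζ (cc z) = z := by
    apply h.ext
    · rw [(hζ _ hcz).1, hz]
    · rw [(hζ _ hcz).2]
  rw [hB, hzz] at hfin
  exact h.ext _ _ (by rw [hτ0 _ hz, hz]) hfin

end SU3Coords

/-- The number of elements of the subfield. -/
theorem card_fixed [Fintype F] (hF : Fintype.card F = q ^ 2) (h2 : (2 : F) = 0) :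
    Nat.card {z : F // z ^ q = z} = q := by
  classical
  let T : F →+ F :=
    { toFun := fun t => t + t ^ q
      map_zero' := by
        have hq : q ≠ 0 := by have := two_le_q hF; omega
        simp [hq]
      map_add' := fun a b => by
        rw [add_pow_q hF]
        ring }
  have hker : ∀ z, z ∈ T.ker ↔ z ^ q = z := by
    intro z
    rw [AddMonoidHom.mem_ker]
    show z + z ^ q = 0 ↔ _
    constructor
    · intro h
      linear_combination h - z * h2
    · intro h
      rw [h]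
      linear_combination z * h2
  have hrange : ∀ z, z ∈ T.range ↔ z ^ q = z := by
    intro z
    rw [AddMonoidHom.mem_range]
    constructor
    · rintro ⟨t, rfl⟩
      show (t + t ^ q) ^ q = t + t ^ q
      rw [add_pow_q hF, pow_q_pow_q hF, add_comm]
    · intro h
      exact exists_trace_eq' hF z h
  have h1 := AddSubgroup.card_mul_index T.ker
  rw [AddSubgroup.index_ker] at h1
  have h3 : Nat.card T.ker = Nat.card {z : F // z ^ q = z} :=
    Nat.card_congr (Equiv.subtypeEquivRight hker)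
  have h4 : Nat.card T.range = Nat.card {z : F // z ^ q = z} :=
    Nat.card_congr (Equiv.subtypeEquivRight hrange)
  rw [h3, h4, Nat.card_eq_fintype_card (α := F), hF] at h1
  have hq : (Nat.card {z : F // z ^ q = z}) ^ 2 = q ^ 2 := by
    rw [← h1]
    ring
  exact (Nat.pow_left_injective (n := 2) (by norm_num)) hq

theorem SU3Coords.card_eq [Fintype F] (h : SU3Coords q X aa cc) (hF : Fintype.card F = q ^ 2)
    (h2 : (2 : F) = 0) [Finite X] : Nat.card X = q ^ 3 := by
  have hq2 : 2 ≤ q := two_le_q hF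
  have hq0 : q ≠ 0 := by omega
  let π : X →* Multiplicative F :=
    { toFun := fun x => Multiplicative.ofAdd (aa x)
      map_one' := by rw [h.aa_one]; rfl
      map_mul' := fun x y => by rw [h.aa_mul]; rfl }
  have hπs : Function.Surjective π := by
    intro a
    obtain ⟨x, hx⟩ := h.exists_aa h2 hF (Multiplicative.toAdd a)
    exact ⟨x, by show Multiplicative.ofAdd (aa x) = a; rw [hx]; rfl⟩
  have hker : Nat.card π.ker = q := by
    rw [← card_fixed hF h2]
    apply Nat.card_congr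
    refine Equiv.ofBijective (fun x => ⟨cc x.1, ?_⟩) ⟨?_, ?_⟩
    · have h0 : aa x.1 = 0 := by
        have := x.2
        rw [MonoidHom.mem_ker] at this
        exact this
      have h1 := h.rel x.1
      rw [h0, zero_pow (by omega)] at h1
      linear_combination h1 - (cc x.1) * h2
    · intro x y hxy
      apply Subtype.ext
      have h0 : ∀ x : π.ker, aa x.1 = 0 := by
        intro x
        have := x.2
        rw [MonoidHom.mem_ker] at this
        exact this
      apply h.ext
      · rw [h0, h0]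
      · exact congrArg Subtype.val hxy
    · rintro ⟨γ, hγ⟩
      obtain ⟨x, hx1, hx2⟩ := h.ex 0 γ (by
        rw [hγ, zero_pow (by omega)]
        linear_combination γ * h2)
      refine ⟨⟨x, ?_⟩, Subtype.ext hx2⟩
      rw [MonoidHom.mem_ker]
      show Multiplicative.ofAdd (aa x) = 1
      rw [hx1]
      rfl
  have h6 := Subgroup.card_mul_index π.ker
  rw [Subgroup.index_ker, MonoidHom.range_eq_top.mpr hπs, Subgroup.card_top, hker] at h6
  have h7 : Nat.card (Multiplicative F) = q ^ 2 := by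
    show Nat.card F = _
    rw [Nat.card_eq_fintype_card, hF]
  rw [h7] at h6
  rw [← h6]
  ring

end coords

section matrix

variable {F : Type*} [Field F] {q : ℕ}

/-- The unipotent elements of `SU₃` for the diagonal form, in characteristic two. -/
def uMat (q : ℕ) (α γ : F) : Matrix (Fin 3) (Fin 3) F :=
  !![1 + γ, γ, α; γ, 1 + γ, α; α ^ q, α ^ q, 1]

theorem uMat_zero (hq : q ≠ 0) : uMat q (0 : F) 0 = 1 := by
  ext i j
  fin_cases i <;> fin_cases j <;> simp [uMat, hq]

theorem uMat_det (h2 : (2 : F) = 0) (α γ : F) : (uMat q α γ).det = 1 := by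
  rw [Matrix.det_fin_three]
  simp [uMat]
  linear_combination (γ - α * α ^ q) * h2

theorem uMat_mulVec (α γ : F) (u : Fin 3 → F) :
    uMat q α γ *ᵥ u = ![u 0 + γ * (u 0 + u 1) + α * u 2, u 1 + γ * (u 0 + u 1) + α * u 2,
      α ^ q * (u 0 + u 1) + u 2] := by
  ext i
  fin_cases i <;> simp [uMat, Matrix.mulVec, dotProduct, Fin.sum_univ_three] <;> ring

variable [Fintype F]

theorem uMat_mul (hF : Fintype.card F = q ^ 2) (h2 : (2 : F) = 0) (α γ α' γ' : F) :
    uMat q α γ * uMat q α' γ' = uMat q (α + α') (γ + γ' + α * α' ^ q) := by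
  ext i j
  fin_cases i <;> fin_cases j <;> simp [uMat, Matrix.mul_apply, Fin.sum_univ_three] <;>
    first
    | linear_combination γ * γ' * h2
    | linear_combination γ * α' * h2
    | linear_combination α ^ q * α' * h2
    | (rw [add_pow_q hF]; linear_combination α ^ q * γ' * h2)

theorem uMat_herm (hF : Fintype.card F = q ^ 2) (h2 : (2 : F) = 0) {α γ : F}
    (hrel : γ + γ ^ q = α ^ (q + 1)) (u v : Fin 3 → F) :
    hermForm 3 F q (uMat q α γ *ᵥ u) (uMat q α γ *ᵥ v) = hermForm 3 F q u v := by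
  rw [uMat_mulVec, uMat_mulVec]
  unfold hermForm
  simp only [Fin.sum_univ_three]
  simp only [Matrix.cons_val_zero, Matrix.cons_val_one, Matrix.cons_val, add_pow_q hF, mul_pow,
    pow_q_pow_q hF]
  rw [pow_succ' α q] at hrel
  generalize v 0 ^ q = a0 at *
  generalize v 1 ^ q = a1 at *
  generalize v 2 ^ q = a2 at *
  generalize α ^ q = b at *
  generalize γ ^ q = g at *
  linear_combination (u 0 + u 1) * (a0 + a1) * hrel +
    (α * b * (u 0 + u 1) * (a0 + a1) + (u 0 + u 1) * b * a2 + α * u 2 * (a0 + a1) +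
      (γ * (u 0 + u 1) + α * u 2) * (g * (a0 + a1) + b * a2)) * h2

/-- The Sylow subgroup. -/
def uP (hF : Fintype.card F = q ^ 2) (h2 : (2 : F) = 0) : Subgroup (SU 3 F q) where
  carrier := {g | ∃ α γ : F, γ + γ ^ q = α ^ (q + 1) ∧ (g.1.1 : Matrix (Fin 3) (Fin 3) F) = uMat q α γ}
  mul_mem' := by
    rintro a b ⟨α, γ, h, ha⟩ ⟨α', γ', h', hb⟩
    refine ⟨α + α', γ + γ' + α * α' ^ q, ?_, ?_⟩
    · rw [add_pow_q hF, add_pow_q hF, mul_pow, pow_q_pow_q hF, pow_succ (α + α') q, add_pow_q hF]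
      rw [pow_succ' α q] at h
      rw [pow_succ' α' q] at h'
      linear_combination h + h'
    · show (a.1.1 * b.1.1 : Matrix (Fin 3) (Fin 3) F) = _
      rw [ha, hb, uMat_mul hF h2]
  one_mem' := ⟨0, 0, by
      have hq : q ≠ 0 := by have := two_le_q hF; omega
      simp [hq], by
    show (1 : Matrix (Fin 3) (Fin 3) F) = _
    rw [uMat_zero (by have := two_le_q hF; omega)]⟩
  inv_mem' := by
    rintro a ⟨α, γ, h, ha⟩
    have hrel' : (γ + α ^ (q + 1)) + (γ + α ^ (q + 1)) ^ q = α ^ (q + 1) := by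
      rw [add_pow_q hF, norm_pow_fixed hF]
      linear_combination h + (α ^ (q + 1)) * h2
    have hb : ∃ b : SU 3 F q, (b.1.1 : Matrix (Fin 3) (Fin 3) F) = uMat q α (γ + α ^ (q + 1)) :=
      ⟨⟨⟨uMat q α (γ + α ^ (q + 1)), uMat_det h2 _ _⟩, fun u v => uMat_herm hF h2 hrel' u v⟩, rfl⟩
    obtain ⟨b, hb⟩ := hb
    have hab : a * b = 1 := by
      apply Subtype.ext
      apply Subtype.ext
      show (a.1.1 * b.1.1 : Matrix (Fin 3) (Fin 3) F) = 1
      rw [ha, hb, uMat_mul hF h2]
      have e1 : α + α = 0 := by linear_combination α * h2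
      have e2 : γ + (γ + α ^ (q + 1)) + α * α ^ q = 0 := by
        rw [pow_succ' α q]
        linear_combination (γ + α * α ^ q) * h2
      rw [e1, e2, uMat_zero (by have := two_le_q hF; omega)]
    have hinv : a⁻¹ = b := (eq_inv_of_mul_eq_one_right hab).symm
    rw [hinv]
    exact ⟨α, γ + α ^ (q + 1), hrel', hb⟩

/-- The coordinates. -/
def uAA (hF : Fintype.card F = q ^ 2) (h2 : (2 : F) = 0) (x : ↥(uP hF h2)) : F :=
  (x.1.1.1 : Matrix (Fin 3) (Fin 3) F) 0 2

/-- The coordinates. -/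
def uCC (hF : Fintype.card F = q ^ 2) (h2 : (2 : F) = 0) (x : ↥(uP hF h2)) : F :=
  (x.1.1.1 : Matrix (Fin 3) (Fin 3) F) 0 1

theorem uP_mat (hF : Fintype.card F = q ^ 2) (h2 : (2 : F) = 0) (x : ↥(uP hF h2)) :
    (x.1.1.1 : Matrix (Fin 3) (Fin 3) F) = uMat q (uAA hF h2 x) (uCC hF h2 x) ∧
      uCC hF h2 x + uCC hF h2 x ^ q = uAA hF h2 x ^ (q + 1) := by
  obtain ⟨α, γ, h, ha⟩ := x.2
  have h1 : uAA hF h2 x = α := by
    unfold uAA
    rw [ha]
    simp [uMat]
  have h3 : uCC hF h2 x = γ := by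
    unfold uCC
    rw [ha]
    simp [uMat]
  rw [h1, h3]
  exact ⟨ha, h⟩

theorem uP_coords (hF : Fintype.card F = q ^ 2) (h2 : (2 : F) = 0) :
    SU3Coords q ↥(uP hF h2) (uAA hF h2) (uCC hF h2) where
  ext := by
    intro x y h1 h3
    apply Subtype.ext
    apply Subtype.ext
    apply Subtype.ext
    rw [(uP_mat hF h2 x).1, (uP_mat hF h2 y).1, h1, h3]
  rel := fun x => (uP_mat hF h2 x).2
  aa_mul := by
    intro x y
    show (x.1.1.1 * y.1.1.1 : Matrix (Fin 3) (Fin 3) F) 0 2 = _
    rw [(uP_mat hF h2 x).1, (uP_mat hF h2 y).1, uMat_mul hF h2]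
    simp [uMat]
  cc_mul := by
    intro x y
    show (x.1.1.1 * y.1.1.1 : Matrix (Fin 3) (Fin 3) F) 0 1 = _
    rw [(uP_mat hF h2 x).1, (uP_mat hF h2 y).1, uMat_mul hF h2]
    simp [uMat]
  aa_one := by
    show (1 : Matrix (Fin 3) (Fin 3) F) 0 2 = 0
    simp
  cc_one := by
    show (1 : Matrix (Fin 3) (Fin 3) F) 0 1 = 0
    simp
  ex := by
    intro α γ h
    let b : SU 3 F q := ⟨⟨uMat q α γ, uMat_det h2 _ _⟩, fun u v => uMat_herm hF h2 h u v⟩
    refine ⟨⟨b, ⟨α, γ, h, rfl⟩⟩, ?_, ?_⟩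
    · show (uMat q α γ) 0 2 = α
      simp [uMat]
    · show (uMat q α γ) 0 1 = γ
      simp [uMat]

theorem char_two_of_card (hF : Fintype.card F = q ^ 2) {n : ℕ} (hq : q = 2 ^ n) : (2 : F) = 0 := by
  have hq2 := two_le_q hF
  have hn : n ≠ 0 := by
    rintro rfl
    simp at hq
    omega
  have heven : Even (Fintype.card F) := by
    rw [hF, hq]
    exact Even.pow_of_ne_zero (Even.pow_of_ne_zero even_two hn) (by norm_num)
  have h1 : ringChar F = 2 := (FiniteField.even_card_iff_char_two).mpr (Nat.even_iff.mp heven)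
  haveI : CharP F 2 := ringChar.of_eq h1
  exact CharTwo.two_eq_zero

theorem card_su3 (hF : Fintype.card F = q ^ 2) :
    Nat.card (SU 3 F q) = q ^ 3 * ((q ^ 2 - 1) * (q ^ 3 + 1)) := by
  have h := card_su (F := F) (q := q) (n := 3) hF (by norm_num)
  simp only [Finset.prod_range_succ, Finset.prod_range_zero] at h
  norm_num [Nat.even_iff] at h
  have hq : q + 1 ≠ 0 := by omega
  apply Nat.eq_of_mul_eq_mul_left (Nat.pos_of_ne_zero hq)
  rw [h]
  ring

/-- Any Sylow `2`-subgroup of `SU₃(2ⁿ)` has the coordinates. -/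
theorem exists_coords (hF : Fintype.card F = q ^ 2) {n : ℕ} (hq : q = 2 ^ n)
    (P : Sylow 2 (SU 3 F q)) : ∃ aa cc : ↥(P : Subgroup (SU 3 F q)) → F,
      SU3Coords q ↥(P : Subgroup (SU 3 F q)) aa cc := by
  have h2 : (2 : F) = 0 := char_two_of_card hF hq
  have hq2 := two_le_q hF
  haveI : Fact (Nat.Prime 2) := ⟨Nat.prime_two⟩
  have hcardP : Nat.card (uP hF h2) = q ^ 3 := (uP_coords hF h2).card_eq hF h2
  have hPp : IsPGroup 2 (uP hF h2) := IsPGroup.iff_card.mpr ⟨n * 3, by rw [hcardP, hq, pow_mul]⟩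
  obtain ⟨Q, hQ⟩ := hPp.exists_le_sylow
  obtain ⟨k, hk⟩ := (Q.isPGroup').exists_card_eq
  have hd : Nat.card (Q : Subgroup (SU 3 F q)) ∣ q ^ 3 * ((q ^ 2 - 1) * (q ^ 3 + 1)) := by
    rw [← card_su3 hF]
    exact Subgroup.card_subgroup_dvd_card _
  have hodd : Nat.Coprime (Nat.card (Q : Subgroup (SU 3 F q))) ((q ^ 2 - 1) * (q ^ 3 + 1)) := by
    rw [hk]
    apply Nat.Coprime.pow_left
    rw [Nat.coprime_two_left]
    have hn : n ≠ 0 := by
      rintro rfl
      simp at hq
      omega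
    have heven : Even q := by
      rw [hq]
      exact Even.pow_of_ne_zero even_two hn
    have h1 : Odd (q ^ 2 - 1) := by
      have h3 : Even (q ^ 2) := Even.pow_of_ne_zero heven (by norm_num)
      have h4 : 1 ≤ q ^ 2 := Nat.one_le_pow _ _ (by omega)
      exact Nat.Even.sub_odd h4 h3 odd_one
    have h3 : Odd (q ^ 3 + 1) := (Even.pow_of_ne_zero heven (by norm_num)).add_one
    exact h1.mul h3
  have hcQ : Nat.card (Q : Subgroup (SU 3 F q)) ≤ q ^ 3 :=
    Nat.le_of_dvd (by positivity) (hodd.dvd_of_dvd_mul_right hd)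
  have heq : uP hF h2 = Q := Subgroup.eq_of_le_of_card_ge hQ (by rw [hcardP]; exact hcQ)
  have e : ↥(P : Subgroup (SU 3 F q)) ≃* ↥(uP hF h2) := by
    rw [heq]
    exact Sylow.equiv P Q
  exact ⟨_, _, (uP_coords hF h2).congr e⟩

end matrix

end Cfsg.Agent.Lib.Components.SU3
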