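import Cfsg.Agent.Lib.Components.U33Data
import Cfsg.Agent.Lib.KnownSimple.LabSU

/-! The functions reading the tables of `U33Data`. -/

set_option autoImplicit false
set_option maxRecDepth 100000

namespace Cfsg.Agent.Lib.Components.U33

open Cfsg.Agent.Lib.KnownSimple.Lab Cfsg.Agent.Lib.KnownSimple.LabMat Cfsg.Agent.Lib.KnownSimple.LabField
open Cfsg.Agent.Lib.KnownSimple.LabVec Cfsg.Agent.Lib.KnownSimple.LabSU

/-- The order of the group. -/
def N : ℕ := 6048

/-- A field of a table. -/
def get (T w i : ℕ) : ℕ := Nat.shiftRight T (w * i) % 2 ^ w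

/-- Forcing a number before using it. -/
def frc (n : ℕ) (f : ℕ → Bool) : Bool := Nat.rec (f 0) (fun k _ => f (k + 1)) n

theorem frc_eq (n : ℕ) (f : ℕ → Bool) : frc n f = f n := by
  cases n <;> rfl

/-- The code of the `i`-th matrix. -/
def enc (i : ℕ) : ℕ := get TC 29 i
/-- The entries of the `i`-th matrix. -/
def cd (i : ℕ) : List ℕ := dgC 9 9 (enc i)
/-- Left multiplication by a generator. -/
def nx (k i : ℕ) : ℕ := get (bif Nat.beq k 0 then TN0 else TN1) 13 i
/-- The parent in the tree. -/
def par (i : ℕ) : ℕ := get TP 19 i % 8192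
/-- The generator leading from the parent. -/
def gn (i : ℕ) : ℕ := get TP 19 i / 8192 % 2
/-- The depth in the tree. -/
def dep (i : ℕ) : ℕ := get TP 19 i / 16384
/-- A chunk of the table of representing matrices. -/
def TRc (j : ℕ) : ℕ :=
  match j with
  | 0 => TR0 | 1 => TR1 | 2 => TR2 | 3 => TR3 | 4 => TR4 | 5 => TR5 | 6 => TR6 | 7 => TR7
  | 8 => TR8 | 9 => TR9 | 10 => TR10 | _ => TR11
/-- The code of the `i`-th representing matrix. -/
def RM (i : ℕ) : ℕ := get (TRc (i / 504)) 576 (i % 504)
/-- A row of a code, real parts. -/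
def fR (c a : ℕ) : ℕ := get c 48 (2 * a)
/-- A row of a code, imaginary parts. -/
def fI (c a : ℕ) : ℕ := get c 48 (2 * a + 1)
/-- A lane of a row. -/
def lane (w b : ℕ) : ℕ := w / 256 ^ b % 256
/-- The real part of an entry. -/
def eRe (c a b : ℕ) : ℤ := ((lane (fR c a) b : ℕ) : ℤ) - 2
/-- The imaginary part of an entry. -/
def eIm (c a b : ℕ) : ℤ := ((lane (fI c a) b : ℕ) : ℤ) - 2
/-- A row as one number, real parts. -/
def PRe (c a : ℕ) : ℤ := ((fR c a : ℕ) : ℤ) - 2207646876162
/-- A row as one number, imaginary parts. -/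
def PIm (c a : ℕ) : ℤ := ((fI c a : ℕ) : ℤ) - 2207646876162
/-- A sum of six terms. -/
def s6 (f : ℕ → ℤ) : ℤ := f 0 + f 1 + f 2 + f 3 + f 4 + f 5
/-- Real part of an entry of a product. -/
def mRe (A B a b : ℕ) : ℤ := s6 fun k => eRe A a k * eRe B k b - eIm A a k * eIm B k b
/-- Imaginary part of an entry of a product. -/
def mIm (A B a b : ℕ) : ℤ := s6 fun k => eRe A a k * eIm B k b + eIm A a k * eRe B k b
/-- The product of the first two codes is the third, read row by row. -/
def opOK (g B C : ℕ) : Bool :=
  (List.range 6).all fun a =>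
    decide (s6 (fun c => eRe g a c * PRe B c - eIm g a c * PIm B c) = PRe C a) &&
    decide (s6 (fun c => eRe g a c * PIm B c + eIm g a c * PRe B c) = PIm C a)
/-- All entries of a code are small. -/
def bnd (c : ℕ) : Bool :=
  (List.range 6).all fun a => (List.range 6).all fun b =>
    Nat.blt (lane (fR c a) b) 5 && Nat.blt (lane (fI c a) b) 5

/-- The field automorphism on codes. -/
def fr (c : ℕ) : ℕ := mul9 c (mul9 c c)
/-- The root elements used. -/
def RL : List (List ℕ × ℕ) := [([0, 1, 5], 3), ([1, 0, 4], 6), ([1, 0, 7], 6), ([1, 2, 3], 3)]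
/-- The generators as words in the root elements. -/
def LW (a : ℕ) : List ℕ := ([[0, 1], [2, 3]] : List (List ℕ)).getD a []
/-- The first generator. -/
def L0 : List ℕ := [7, 0, 8, 3, 4, 2, 3, 8, 2]
/-- The second generator. -/
def L1 : List ℕ := [4, 3, 6, 6, 4, 2, 2, 6, 5]
/-- The generators. -/
def Ls : List (List ℕ) := [L0, L1]
/-- The index of the identity. -/
def i0 : ℕ := 580
/-- The index of the generators. -/
def gi (k : ℕ) : ℕ := bif Nat.beq k 0 then 2116 else 3993
/-- The code of the first generator. -/
def R0 : ℕ := 0x20202020201030202020202020203020203010202030202040302020301020202020303030202020201030202020302010202030102030202020301010202020203010202030102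
/-- The code of the second generator. -/
def R1 : ℕ := 0x10202030202020201030202030302020201020202020202020203020203020202020201020203020203020202030202030203010202020203020303020202020201020202020202

/-- What is checked for one index, on the representing matrices. -/
def chkR (i : ℕ) : Bool :=
  frc (RM i) fun b => frc (RM (nx 0 i)) fun c0 => frc (RM (nx 1 i)) fun c1 =>
    opOK R0 b c0 && opOK R1 b c1 && bnd b

/-- What is checked for one index, on the matrices over the field with nine elements. -/
def chkC (i : ℕ) : Bool :=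
  Nat.blt (nx 0 i) N && Nat.blt (nx 1 i) N &&
    (decide (mulC add9 mul9 3 L0 (cd i) = cd (nx 0 i)) &&
      decide (mulC add9 mul9 3 L1 (cd i) = cd (nx 1 i))) &&
    Nat.blt (enc i) 387420489 && (Nat.beq (i + 1) N || Nat.blt (enc i) (enc (i + 1))) &&
    (Nat.beq i i0 || (Nat.blt (par i) N && Nat.blt (gn i) 2 && Nat.beq (nx (gn i) (par i)) i &&
      Nat.blt (dep (par i)) (dep i)))

end Cfsg.Agent.Lib.Components.U33
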